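import Groth.Agent.Lib.Flat55.Relations
import Mathlib.RingTheory.MvPolynomial.Localization
import Mathlib.RingTheory.Flat.Localization
import Mathlib.RingTheory.Flat.Stability

/-!
# Flatness at a prime: elementwise criterion and change of base ring

* `flat_iff_killed`: `M_q` is flat over `R` iff every element killed by `M ⊗ J → M` is killed by
  an element outside `q`.
* `flat_of_map`: base change of flatness at a prime for presented modules over polynomial rings.
* `flat_of_localization_base`: flatness over a localisation of the base is flatness over the base.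
-/

set_option autoImplicit false
set_option backward.isDefEq.respectTransparency false

universe u

open TensorProduct

namespace Groth.Agent.H19.FlatLocus

section Killed

variable {R : Type*} [CommRing R] {S : Type*} [CommRing S] [Algebra R S]
  {M : Type*} [AddCommGroup M] [Module R M] [Module S M] [IsScalarTower R S M]
  {M' : Type*} [AddCommGroup M'] [Module R M'] [Module S M'] [IsScalarTower R S M']

/-- Injectivity after tensoring a localized module, from torsion of the kernel. -/
theorem lTensor_injective_of_killed (W : Submonoid S) (l : M →ₗ[S] M') [IsLocalizedModule W l]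
    {N P : Type*} [AddCommGroup N] [Module R N] [AddCommGroup P] [Module R P] (f : N →ₗ[R] P)
    (h : ∀ y : M ⊗[R] N, f.lTensor M y = 0 → ∃ s ∈ W, s • y = 0) :
    Function.Injective (f.lTensor M') := by
  let gN : M ⊗[R] N →ₗ[S] M' ⊗[R] N := AlgebraTensorModule.rTensor R N l
  let gP : M ⊗[R] P →ₗ[S] M' ⊗[R] P := AlgebraTensorModule.rTensor R P l
  let fM : M ⊗[R] N →ₗ[S] M ⊗[R] P := AlgebraTensorModule.lTensor S M f
  let fM' : M' ⊗[R] N →ₗ[S] M' ⊗[R] P := AlgebraTensorModule.lTensor S M' f
  have hcomm : fM'.comp gN = gP.comp fM := AlgebraTensorModule.ext fun m n ↦ by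
    simp [gN, gP, fM, fM']
  suffices Function.Injective fM' from this
  rw [injective_iff_map_eq_zero]
  intro x hx
  obtain ⟨⟨y, t⟩, hy⟩ := IsLocalizedModule.surj W gN x
  have h0 : gP (fM y) = 0 := by
    refine (LinearMap.congr_fun hcomm y).symm.trans ?_
    rw [LinearMap.comp_apply, ← hy, Submonoid.smul_def, map_smul, hx, smul_zero]
  obtain ⟨v, hv⟩ := (IsLocalizedModule.eq_zero_iff W gP).1 h0
  rw [Submonoid.smul_def, ← map_smul] at hv
  obtain ⟨s, hs, hsy⟩ := h ((v : S) • y) hv
  have h2 : gN y = 0 := (IsLocalizedModule.eq_zero_iff W gN).2 ⟨⟨s, hs⟩ * v, by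
    change (s * v : S) • y = 0
    rw [mul_smul, hsy]⟩
  refine ((Module.End.isUnit_iff _).1 (IsLocalizedModule.map_units gN t)).1 ?_
  change (t : S) • x = (t : S) • 0
  rw [smul_zero, ← Submonoid.smul_def, hy, h2]

/-- Conversely. -/
theorem killed_of_lTensor_injective (W : Submonoid S) (l : M →ₗ[S] M') [IsLocalizedModule W l]
    {N P : Type*} [AddCommGroup N] [Module R N] [AddCommGroup P] [Module R P] (f : N →ₗ[R] P)
    (hf : Function.Injective (f.lTensor M')) (y : M ⊗[R] N) (hy : f.lTensor M y = 0) :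
    ∃ s ∈ W, s • y = 0 := by
  let gN : M ⊗[R] N →ₗ[S] M' ⊗[R] N := AlgebraTensorModule.rTensor R N l
  have h2 : gN y = 0 := by
    apply hf
    rw [map_zero]
    change (f.lTensor M') ((l.restrictScalars R).rTensor N y) = 0
    rw [← LinearMap.comp_apply, LinearMap.lTensor_comp_rTensor, ← LinearMap.rTensor_comp_lTensor,
      LinearMap.comp_apply, hy, map_zero]
  obtain ⟨v, hv⟩ := (IsLocalizedModule.eq_zero_iff W gN).1 h2
  exact ⟨v, v.2, hv⟩

/-- The elementwise criterion of flatness of a localized module. -/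
theorem flat_iff_killed (W : Submonoid S) (l : M →ₗ[S] M') [IsLocalizedModule W l] :
    Module.Flat R M' ↔ ∀ (J : Ideal R) (y : M ⊗[R] J), J.subtype.lTensor M y = 0 →
      ∃ s ∈ W, s • y = 0 := by
  rw [Module.Flat.iff_lTensor_injective']
  exact ⟨fun h J y ↦ killed_of_lTensor_injective W l J.subtype (h J) y,
    fun h J ↦ lTensor_injective_of_killed W l J.subtype (h J)⟩

end Killed

/-- A localisation of a module is flat as soon as its localisation map factors through a flat
module. -/
theorem flat_of_sandwich {B : Type*} [CommRing B] {P : Type*} [CommRing P] [Algebra B P]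
    {M : Type*} [AddCommGroup M] [Module B M] [Module P M] [IsScalarTower B P M]
    {M' : Type*} [AddCommGroup M'] [Module B M'] [Module P M'] [IsScalarTower B P M']
    (W : Submonoid P) (l : M →ₗ[P] M') [IsLocalizedModule W l]
    {L : Type*} [AddCommGroup L] [Module B L] [Module.Flat B L]
    (Θ : M →ₗ[B] L) (Pr : L →ₗ[B] M') (h : ∀ x, Pr (Θ x) = l x) : Module.Flat B M' := by
  classical
  refine Module.Flat.of_forall_isTrivialRelation fun {n} f x hfx ↦ ?_
  choose p hp using fun k ↦ IsLocalizedModule.surj W l (x k)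
  let t : W := ∏ k, (p k).2
  let x₀ : Fin n → M := fun k ↦ (∏ i ∈ Finset.univ.erase k, ((p i).2 : P)) • (p k).1
  have hx₀ : ∀ k, l (x₀ k) = (t : P) • x k := fun k ↦ by
    rw [map_smul, ← hp k, Submonoid.smul_def, smul_smul,
      Finset.prod_erase_mul _ _ (Finset.mem_univ k), ← Submonoid.coe_finsetProd]
  have h0 : l (∑ k, f k • x₀ k) = 0 := by
    have : ∀ k, l (f k • x₀ k) = (t : P) • (f k • x k) := fun k ↦ by
      rw [LinearMap.map_smul_of_tower, hx₀, smul_comm]
    simp only [map_sum, this, ← Finset.smul_sum, hfx, smul_zero]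
  obtain ⟨v, hv⟩ := (IsLocalizedModule.eq_zero_iff W l).1 h0
  rw [Submonoid.smul_def, Finset.smul_sum] at hv
  have h1 : ∑ k, f k • Θ ((v : P) • x₀ k) = 0 := by
    simp only [← map_smul, ← map_sum]
    rw [show ∑ k, f k • (v : P) • x₀ k = ∑ k, (v : P) • f k • x₀ k from
      Finset.sum_congr rfl fun k _ ↦ smul_comm _ _ _, hv, map_zero]
  obtain ⟨m, a, y, hy, ha⟩ := Module.Flat.isTrivialRelation_of_sum_smul_eq_zero h1
  have hu := (Module.End.isUnit_iff _).1 (IsLocalizedModule.map_units (S := W) l (v * t))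
  choose y' hy' using fun j ↦ hu.2 (Pr (y j))
  refine ⟨m, a, y', fun k ↦ hu.1 ?_, ha⟩
  change ((v * t : W) : P) • x k = ((v * t : W) : P) • ∑ j, a k j • y' j
  rw [Finset.smul_sum, Submonoid.coe_mul, mul_smul, ← hx₀, ← map_smul, ← h,
    show Θ ((v : P) • x₀ k) = ∑ j, a k j • y j from hy k, map_sum]
  refine Finset.sum_congr rfl fun j _ ↦ ?_
  rw [map_smul, smul_comm, ← Submonoid.coe_mul]
  exact congrArg _ (hy' j).symm

open MvPolynomial Groth.Agent.Lib.Flat55.Relations

variable {σ ι κ : Type}

/-- Base change of flatness at a prime. -/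
theorem flat_of_map [Finite ι] {A B : Type u} [CommRing A] [CommRing B] (φ : A →+* B)
    (g₀ : κ → ι → MvPolynomial σ A) (g : κ → ι → MvPolynomial σ B)
    (hg : ∀ v, mapVec φ (g₀ v) = g v) (Q : Ideal (MvPolynomial σ B)) [Q.IsPrime]
    (Q₀ : Ideal (MvPolynomial σ A)) [Q₀.IsPrime] (hQ : Q.comap (MvPolynomial.map φ) = Q₀)
    [Module.Flat A (QuotAt g₀ Q₀)] : Module.Flat B (QuotAt g Q) := by
  classical
  cases nonempty_fintype ι
  let : Algebra A B := φ.toAlgebra
  let : Algebra (MvPolynomial σ A) (MvPolynomial σ B) := (MvPolynomial.map φ).toAlgebra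
  let lM := LocalizedModule.mkLinearMap Q.primeCompl (Quot g)
  have hact : ∀ (q : MvPolynomial σ A) (x : QuotAt g Q), q • x = MvPolynomial.map φ q • x :=
    fun q x ↦ (algebraMap_smul (MvPolynomial σ B) q x).symm
  have hCA : ∀ (a : A) (x : QuotAt g Q),
      a • x = (MvPolynomial.C a : MvPolynomial σ A) • x := fun a x ↦ by
    rw [hact, map_C, ← MvPolynomial.algebraMap_eq, algebraMap_smul]
    exact (algebraMap_smul B a x).symm
  have : IsScalarTower A (MvPolynomial σ A) (QuotAt g Q) := ⟨fun a p x ↦ by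
    rw [hCA, MvPolynomial.smul_eq_C_mul, mul_smul]⟩
  let L₁ : (ι → MvPolynomial σ A) →ₗ[MvPolynomial σ A] QuotAt g Q :=
    { toFun := fun f ↦ lM (Submodule.Quotient.mk (mapVec φ f))
      map_add' := fun a b ↦ by rw [map_add, Submodule.Quotient.mk_add, map_add]
      map_smul' := fun a f ↦ by
        rw [mapVec_smul, Submodule.Quotient.mk_smul, map_smul]
        exact (hact a _).symm }
  let L₂ : Quot g₀ →ₗ[MvPolynomial σ A] QuotAt g Q := (rel g₀).liftQ L₁ <| by
    rw [rel, Submodule.span_le]
    rintro _ ⟨v, rfl⟩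
    change lM (Submodule.Quotient.mk (mapVec φ (g₀ v))) = 0
    rw [hg, (Submodule.Quotient.mk_eq_zero (rel g)).2 (Submodule.subset_span ⟨v, rfl⟩), map_zero]
  let L₃ : QuotAt g₀ Q₀ →ₗ[MvPolynomial σ A] QuotAt g Q := IsLocalizedModule.lift Q₀.primeCompl
    (LocalizedModule.mkLinearMap Q₀.primeCompl (Quot g₀)) L₂ (by
      intro s
      rw [Module.End.isUnit_iff]
      have hs : MvPolynomial.map φ (s : MvPolynomial σ A) ∉ Q := fun h ↦ s.2 (hQ ▸ h)
      have h := IsLocalizedModule.map_units lM (⟨_, hs⟩ : Q.primeCompl)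
      rw [Module.End.isUnit_iff] at h
      convert h using 1
      exact funext fun x ↦ hact _ x)
  let ρ : QuotAt g₀ Q₀ →ₗ[A] QuotAt g Q := L₃.restrictScalars A
  let Pr : B ⊗[A] QuotAt g₀ Q₀ →ₗ[B] QuotAt g Q :=
    TensorProduct.AlgebraTensorModule.lift ((LinearMap.toSpanSingleton B _ ρ).restrictScalars B)
  let π₀ : (ι → MvPolynomial σ A) →ₗ[MvPolynomial σ A] QuotAt g₀ Q₀ :=
    (LocalizedModule.mkLinearMap Q₀.primeCompl (Quot g₀)).comp (rel g₀).mkQ
  let bas := Pi.basis fun _ : ι ↦ MvPolynomial.basisMonomials σ B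
  let Θ₀ : (ι → MvPolynomial σ B) →ₗ[B] B ⊗[A] QuotAt g₀ Q₀ :=
    bas.constr B fun x ↦ (1 : B) ⊗ₜ π₀ (Pi.single x.1 (monomial x.2 1))
  have hbas : ∀ x, bas x = mapVec φ (Pi.single x.1 (monomial x.2 1)) := fun x ↦ by
    funext i
    rw [Pi.basis_apply, mapVec_apply]
    rcases eq_or_ne i x.1 with rfl | hi
    · simp
    · simp [hi]
  have hΘ₀ : ∀ f : ι → MvPolynomial σ A, Θ₀ (mapVec φ f) = (1 : B) ⊗ₜ π₀ f := by
    intro f
    let bA := Pi.basis fun _ : ι ↦ MvPolynomial.basisMonomials σ A
    have hbA : ∀ x, bA x = Pi.single x.1 (monomial x.2 1) := fun x ↦ by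
      rw [Pi.basis_apply, MvPolynomial.coe_basisMonomials]
    rw [← bA.linearCombination_repr f, Finsupp.linearCombination_apply, Finsupp.sum]
    simp only [map_sum, TensorProduct.tmul_sum]
    refine Finset.sum_congr rfl fun x _ ↦ ?_
    rw [LinearMap.map_smul_of_tower π₀, TensorProduct.tmul_smul, hbA]
    have : mapVec φ (bA.repr f x • (Pi.single x.1 (monomial x.2 1) : ι → MvPolynomial σ A)) =
        φ (bA.repr f x) • bas x := by
      rw [hbas]
      funext i
      simp [mapVec_apply, MvPolynomial.smul_eq_C_mul]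
    rw [this, map_smul, Module.Basis.constr_basis, TensorProduct.smul_tmul']
    rw [TensorProduct.smul_tmul']
    congr 1
  have hgen : ∀ (p : MvPolynomial σ B) (v : κ), Θ₀ (p • g v) = 0 := fun p v ↦ by
    induction p using MvPolynomial.induction_on' with
    | monomial d b =>
      have : monomial d b • g v = b • mapVec φ ((monomial d (1 : A)) • g₀ v) := by
        rw [mapVec_smul, hg, map_monomial, map_one, ← smul_assoc, smul_monomial, smul_eq_mul,
          mul_one]
      rw [this, map_smul, hΘ₀]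
      have h0 : π₀ (monomial d (1 : A) • g₀ v) = 0 := by
        change LocalizedModule.mkLinearMap _ _ ((rel g₀).mkQ _) = 0
        rw [Submodule.mkQ_apply, (Submodule.Quotient.mk_eq_zero _).2
          (Submodule.smul_mem _ _ (Submodule.subset_span (Set.mem_range_self v))), map_zero]
      rw [h0, TensorProduct.tmul_zero, smul_zero]
    | add p q hp hq => rw [add_smul, map_add, hp, hq, add_zero]
  have hker : (rel g).restrictScalars B ≤ LinearMap.ker Θ₀ := by
    intro z hz
    rw [LinearMap.mem_ker]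
    rw [Submodule.restrictScalars_mem, rel, Finsupp.mem_span_range_iff_exists_finsupp] at hz
    obtain ⟨c, rfl⟩ := hz
    rw [Finsupp.sum, map_sum]
    exact Finset.sum_eq_zero fun v _ ↦ hgen _ v
  let Θ : Quot g →ₗ[B] B ⊗[A] QuotAt g₀ Q₀ :=
    (((rel g).restrictScalars B).liftQ Θ₀ hker).comp
      (Submodule.Quotient.restrictScalarsEquiv B (rel g)).symm.toLinearMap
  refine flat_of_sandwich Q.primeCompl lM Θ Pr fun x ↦ ?_
  obtain ⟨f, rfl⟩ := Submodule.mkQ_surjective (rel g) x
  change Pr (Θ₀ f) = lM ((rel g).mkQ f)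
  suffices h : Pr.comp Θ₀ = (lM.comp (rel g).mkQ).restrictScalars B from LinearMap.congr_fun h f
  refine bas.ext fun x ↦ ?_
  rw [LinearMap.comp_apply, Module.Basis.constr_basis, hbas]
  change (1 : B) • L₃ (π₀ _) = _
  rw [one_smul]
  exact IsLocalizedModule.lift_apply _ _ _ _ _

/-- Flatness over a localisation of the base gives flatness over the base. -/
theorem flat_of_localization_base [Finite ι] {A A' : Type u} [CommRing A] [CommRing A']
    [Algebra A A'] (W : Submonoid A) [IsLocalization W A']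
    (g₀ : κ → ι → MvPolynomial σ A) (g : κ → ι → MvPolynomial σ A')
    (hg : ∀ v, mapVec (algebraMap A A') (g₀ v) = g v) (Q : Ideal (MvPolynomial σ A')) [Q.IsPrime]
    (Q₀ : Ideal (MvPolynomial σ A)) [Q₀.IsPrime]
    (hQ : Q.comap (MvPolynomial.map (algebraMap A A')) = Q₀)
    [Module.Flat A' (QuotAt g Q)] : Module.Flat A (QuotAt g₀ Q₀) := by
  classical
  cases nonempty_fintype ι
  let φ := algebraMap A A'
  let : Algebra (MvPolynomial σ A) (MvPolynomial σ A') := (MvPolynomial.map φ).toAlgebra
  have : IsLocalization (W.map (C : A →+* MvPolynomial σ A)) (MvPolynomial σ A') :=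
    MvPolynomial.isLocalization W A'
  have hW : ∀ y : W.map (C : A →+* MvPolynomial σ A),
      IsUnit (algebraMap (MvPolynomial σ A) (Localization.AtPrime Q₀) y) := by
    rintro ⟨_, w, hw, rfl⟩
    have hu : IsUnit (MvPolynomial.map φ (C (σ := σ) w)) := by
      rw [map_C]
      exact (IsLocalization.map_units A' (⟨w, hw⟩ : W)).map C
    exact IsLocalization.map_units (Localization.AtPrime Q₀)
      (⟨C w, fun h ↦ Ideal.IsPrime.ne_top' (Ideal.eq_top_of_isUnit_mem Q
        (Ideal.mem_comap.mp (hQ ▸ h)) hu)⟩ : Q₀.primeCompl)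
  let χ : MvPolynomial σ A' →+* Localization.AtPrime Q₀ := IsLocalization.lift hW
  have hχ : ∀ q, χ (MvPolynomial.map φ q) = algebraMap (MvPolynomial σ A) _ q := fun q ↦
    IsLocalization.lift_eq hW q
  let l₀ := LocalizedModule.mkLinearMap Q₀.primeCompl (Quot g₀)
  let : Module (MvPolynomial σ A') (QuotAt g₀ Q₀) := Module.compHom _ χ
  have hact : ∀ (q : MvPolynomial σ A) (x : QuotAt g₀ Q₀), MvPolynomial.map φ q • x = q • x :=
    fun q x ↦ by
      change χ (MvPolynomial.map φ q) • x = q • x
      rw [hχ, algebraMap_smul]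
  let bas := Pi.basisFun (MvPolynomial σ A') ι
  let R₀ : (ι → MvPolynomial σ A') →ₗ[MvPolynomial σ A'] QuotAt g₀ Q₀ :=
    bas.constr (MvPolynomial σ A') fun i ↦ l₀ ((rel g₀).mkQ (Pi.single i 1))
  have hR₀ : ∀ f, R₀ (mapVec φ f) = l₀ ((rel g₀).mkQ f) := by
    intro f
    conv_rhs => rw [pi_eq_sum_univ' f]
    rw [pi_eq_sum_univ' (mapVec φ f)]
    simp only [map_sum, map_smul]
    refine Finset.sum_congr rfl fun i _ ↦ ?_
    rw [mapVec_apply, hact, ← Pi.basisFun_apply, Module.Basis.constr_basis]
  let R₁ : Quot g →ₗ[MvPolynomial σ A'] QuotAt g₀ Q₀ := (rel g).liftQ R₀ <| by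
    rw [rel, Submodule.span_le]
    rintro _ ⟨v, rfl⟩
    rw [SetLike.mem_coe, LinearMap.mem_ker, ← hg, hR₀, Submodule.mkQ_apply,
      (Submodule.Quotient.mk_eq_zero _).2 (Submodule.subset_span (Set.mem_range_self v)), map_zero]
  let R₂ : QuotAt g Q →ₗ[MvPolynomial σ A'] QuotAt g₀ Q₀ :=
    IsLocalizedModule.lift Q.primeCompl (LocalizedModule.mkLinearMap Q.primeCompl (Quot g)) R₁ (by
      intro s
      rw [Module.End.isUnit_iff]
      have : IsUnit (χ s) := by
        obtain ⟨⟨x, w⟩, hxw⟩ := IsLocalization.surj (W.map (C : A →+* MvPolynomial σ A))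
          (s : MvPolynomial σ A')
        have hw : IsUnit (MvPolynomial.map φ (w : MvPolynomial σ A)) :=
          IsLocalization.map_units (MvPolynomial σ A') w
        have hx : x ∉ Q₀ := fun h ↦ by
          have h1 : MvPolynomial.map φ x ∈ Q := Ideal.mem_comap.mp (hQ ▸ h)
          rw [show MvPolynomial.map φ x = _ from hxw.symm] at h1
          rcases (inferInstance : Q.IsPrime).mem_or_mem h1 with h2 | h2
          · exact s.2 h2
          · exact Ideal.IsPrime.ne_top' (Ideal.eq_top_of_isUnit_mem Q h2 hw)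
        have h3 := congrArg χ hxw
        rw [map_mul] at h3
        suffices hu : IsUnit (χ (algebraMap (MvPolynomial σ A) (MvPolynomial σ A') x)) by
          rw [← h3] at hu
          exact (IsUnit.mul_iff.mp hu).1
        rw [show algebraMap (MvPolynomial σ A) (MvPolynomial σ A') x = MvPolynomial.map φ x from rfl,
          hχ]
        exact IsLocalization.map_units (Localization.AtPrime Q₀) (⟨x, hx⟩ : Q₀.primeCompl)
      convert (Module.End.isUnit_iff _).1 (this.map (algebraMap (Localization.AtPrime Q₀)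
        (Module.End (Localization.AtPrime Q₀) (QuotAt g₀ Q₀)))) using 1
      rfl)
  have : Module.Flat A A' := IsLocalization.flat A' W
  have : Module.Flat A (QuotAt g Q) := Module.Flat.trans A A' _
  let Θ₀ : (ι → MvPolynomial σ A) →ₗ[A] QuotAt g Q :=
    { toFun := fun f ↦ LocalizedModule.mkLinearMap Q.primeCompl (Quot g)
        ((rel g).mkQ (mapVec φ f))
      map_add' := fun a b ↦ by simp only [map_add]
      map_smul' := fun a f ↦ by
        have : mapVec φ (a • f) = a • mapVec φ f := funext fun i ↦ by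
          simp [Algebra.smul_def, φ]
        rw [this, LinearMap.map_smul_of_tower, LinearMap.map_smul_of_tower, RingHom.id_apply] }
  have hker : (rel g₀).restrictScalars A ≤ LinearMap.ker Θ₀ := by
    intro z hz
    rw [Submodule.restrictScalars_mem] at hz
    rw [LinearMap.mem_ker]
    change LocalizedModule.mkLinearMap _ _ ((rel g).mkQ _) = 0
    rw [Submodule.mkQ_apply, (Submodule.Quotient.mk_eq_zero _).2 ?_, map_zero]
    induction hz using Submodule.span_induction with
    | mem z hz => obtain ⟨v, rfl⟩ := hz; exact hg v ▸ Submodule.subset_span (Set.mem_range_self v)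
    | zero => simp
    | add x y _ _ hx hy => rw [map_add]; exact add_mem hx hy
    | smul q x _ hx => rw [mapVec_smul]; exact Submodule.smul_mem _ _ hx
  let Θ : Quot g₀ →ₗ[A] QuotAt g Q :=
    (((rel g₀).restrictScalars A).liftQ Θ₀ hker).comp
      (Submodule.Quotient.restrictScalarsEquiv A (rel g₀)).symm.toLinearMap
  let Pr : QuotAt g Q →ₗ[A] QuotAt g₀ Q₀ :=
    { toFun := R₂
      map_add' := map_add R₂
      map_smul' := fun a x ↦ by
        rw [RingHom.id_apply, ← algebraMap_smul A' a x,
          ← algebraMap_smul (MvPolynomial σ A') (algebraMap A A' a) x, map_smul,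
          MvPolynomial.algebraMap_eq]
        have := hact (C a) (R₂ x)
        rw [map_C] at this
        rw [this]
        exact algebraMap_smul (MvPolynomial σ A) a (R₂ x) }
  refine flat_of_sandwich Q₀.primeCompl l₀ Θ Pr fun x ↦ ?_
  obtain ⟨f, rfl⟩ := Submodule.mkQ_surjective (rel g₀) x
  change R₂ (LocalizedModule.mkLinearMap Q.primeCompl (Quot g) ((rel g).mkQ (mapVec φ f))) = _
  refine (IsLocalizedModule.lift_apply _ _ _ _ _).trans ?_
  exact hR₀ f

end Groth.Agent.H19.FlatLocus
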