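import Groth.Agent.H19.FlatLocus.Main
import Groth.Agent.Lib.Flat55.Presented
import Mathlib.RingTheory.IsTensorProduct
import Mathlib.Algebra.Module.Torsion.Basic

/-!
# Models over finitely generated rings of finitely presented algebras and modules
-/

set_option autoImplicit false
set_option backward.isDefEq.respectTransparency false
set_option maxHeartbeats 800000
set_option synthInstance.maxHeartbeats 80000

universe u

open TensorProduct MvPolynomial
open Groth.Agent.Lib Groth.Agent.Lib.Flat55.Relations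

namespace Groth.Agent.H19.FlatLocus.Model

/-- A surjective extension of scalars does not change a module. -/
theorem isBaseChange_id {A B M : Type*} [CommRing A] [CommRing B] [Algebra A B] [AddCommGroup M]
    [Module A M] [Module B M] [IsScalarTower A B M] (h : Function.Surjective (algebraMap A B)) :
    IsBaseChange B (LinearMap.id : M →ₗ[A] M) := by
  refine IsBaseChange.of_lift_unique _ fun Q _ _ _ _ g ↦ ?_
  refine ⟨{ g with map_smul' := fun b x ↦ ?_ }, LinearMap.ext fun x ↦ rfl,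
    fun g' hg' ↦ LinearMap.ext fun x ↦ LinearMap.congr_fun hg' x⟩
  obtain ⟨a, rfl⟩ := h b
  simp [algebraMap_smul]

/-- Flatness from flatness at all primes. -/
theorem flat_of_forall_prime {R S M : Type*} [CommRing R] [CommRing S] [Algebra R S]
    [AddCommGroup M] [Module R M] [Module S M] [IsScalarTower R S M]
    (h : ∀ (q : Ideal S) [q.IsPrime], Module.Flat R (LocalizedModule q.primeCompl M)) :
    Module.Flat R M := by
  rw [Module.Flat.iff_lTensor_injective']
  intro J
  rw [injective_iff_map_eq_zero]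
  intro y hy
  by_contra hne
  let Ann : Ideal S := LinearMap.ker (LinearMap.toSpanSingleton S _ y)
  obtain ⟨m, hm, hle⟩ := Ideal.exists_le_maximal Ann fun ht ↦ hne <| by
    have : (1 : S) ∈ Ann := ht ▸ Submodule.mem_top
    simpa [Ann] using this
  have := h m
  obtain ⟨s, hs, hsy⟩ := (flat_iff_killed m.primeCompl
    (LocalizedModule.mkLinearMap m.primeCompl M)).1 this J y hy
  exact hs (hle hsy)

/-- Flatness at a prime from flatness. -/
theorem flat_localized {R S M M' : Type*} [CommRing R] [CommRing S] [Algebra R S]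
    [AddCommGroup M] [Module R M] [Module S M] [IsScalarTower R S M]
    [AddCommGroup M'] [Module R M'] [Module S M'] [IsScalarTower R S M']
    (W : Submonoid S) (l : M →ₗ[S] M') [IsLocalizedModule W l] [Module.Flat R M] :
    Module.Flat R M' :=
  (flat_iff_killed W l).2 fun J y hy ↦ ⟨1, W.one_mem, by
    rw [one_smul]
    exact (Module.Flat.lTensor_preserves_injective_linearMap J.subtype J.injective_subtype)
      (hy.trans (map_zero _).symm)⟩

variable {n l : ℕ} {R : Type u} [CommRing R]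

/-- Preimages of coefficients. -/
theorem exists_lift_vec {ι : Type} [Finite ι] (R' : Subalgebra ℤ R)
    (v : ι → MvPolynomial (Fin n) R) (h : ∀ i, ↑(v i).coeffs ⊆ (R' : Set R)) :
    ∃ v' : ι → MvPolynomial (Fin n) R', mapVec R'.val.toRingHom v' = v := by
  choose p hp using fun i ↦ exists_coeffs_preimage R'.val.toRingHom (v i)
    fun x hx ↦ ⟨⟨x, h i hx⟩, rfl⟩
  exact ⟨p, funext hp⟩

/-- All relations: the given ones, and the equations of the algebra times the basis. -/
noncomputable def allRel {A : Type u} [CommRing A] {m k : ℕ}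
    (f : Fin l → MvPolynomial (Fin n) A) (g : Fin k → Fin m → MvPolynomial (Fin n) A) :
    Fin k ⊕ (Fin l × Fin m) → Fin m → MvPolynomial (Fin n) A :=
  Sum.elim g fun p ↦ Pi.single p.2 (f p.1)

theorem mapVec_allRel {A B : Type u} [CommRing A] [CommRing B] (φ : A →+* B) {m k : ℕ}
    {f₀ : Fin l → MvPolynomial (Fin n) A} {g₀ : Fin k → Fin m → MvPolynomial (Fin n) A}
    {f : Fin l → MvPolynomial (Fin n) B} {g : Fin k → Fin m → MvPolynomial (Fin n) B}
    (hf : ∀ i, MvPolynomial.map φ (f₀ i) = f i) (hg : ∀ v, mapVec φ (g₀ v) = g v)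
    (v : Fin k ⊕ (Fin l × Fin m)) : mapVec φ (allRel f₀ g₀ v) = allRel f g v := by
  rcases v with v | ⟨i, j⟩
  · exact hg v
  · funext j'
    rcases eq_or_ne j' j with rfl | hj
    · simp [allRel, hf]
    · simp [allRel, hj]

theorem isTorsionBySet_allRel {A : Type u} [CommRing A] {m k : ℕ}
    (f : Fin l → MvPolynomial (Fin n) A) (g : Fin k → Fin m → MvPolynomial (Fin n) A) :
    Module.IsTorsionBySet (MvPolynomial (Fin n) A) (Quot (allRel f g))
      (Ideal.span (Set.range f) : Ideal (MvPolynomial (Fin n) A)) := by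
  rintro x ⟨a, ha⟩
  obtain ⟨x, rfl⟩ := Submodule.mkQ_surjective _ x
  show a • (rel (allRel f g)).mkQ x = 0
  rw [← map_smul, Submodule.mkQ_apply, Submodule.Quotient.mk_eq_zero]
  induction ha using Submodule.span_induction with
  | mem a ha =>
    obtain ⟨i, rfl⟩ := ha
    rw [pi_eq_sum_univ' x, Finset.smul_sum]
    refine Submodule.sum_mem _ fun j _ ↦ ?_
    rw [smul_comm]
    refine Submodule.smul_mem _ _ (Submodule.subset_span ⟨Sum.inr (i, j), ?_⟩)
    funext j'
    rcases eq_or_ne j' j with rfl | hj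
    · simp [allRel]
    · simp [allRel, hj]
  | zero => rw [zero_smul]; exact zero_mem _
  | add a b _ _ ha hb => rw [add_smul]; exact add_mem ha hb
  | smul c a _ ha => rw [smul_assoc]; exact Submodule.smul_mem _ _ ha

/-- Finitely generated level of an algebra and a module, flat if the module is. -/
theorem exists_fg_level {m k : ℕ} (f : Fin l → MvPolynomial (Fin n) R)
    (g : Fin k → Fin m → MvPolynomial (Fin n) R) :
    ∃ (s : Finset R) (f₀ : Fin l → MvPolynomial (Fin n) (Algebra.adjoin ℤ (s : Set R)))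
      (g₀ : Fin k → Fin m → MvPolynomial (Fin n) (Algebra.adjoin ℤ (s : Set R))),
      (∀ i, MvPolynomial.map (Algebra.adjoin ℤ (s : Set R)).val.toRingHom (f₀ i) = f i) ∧
      (∀ v, mapVec (Algebra.adjoin ℤ (s : Set R)).val.toRingHom (g₀ v) = g v) ∧
      (Module.Flat R (Quot (allRel f g)) →
        Module.Flat (Algebra.adjoin ℤ (s : Set R)) (Quot (allRel f₀ g₀))) := by
  classical
  let t₀ : Finset R := (Finset.univ.biUnion fun i ↦ (f i).coeffs) ∪
    Finset.univ.biUnion fun v ↦ Finset.univ.biUnion fun i ↦ (g v i).coeffs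
  let G := allRel f g
  obtain ⟨t₁, ht₁⟩ : ∃ t₁ : Finset R, Module.Flat R (Quot G) →
      ∃ g₁ : Fin k ⊕ (Fin l × Fin m) → Fin m → MvPolynomial (Fin n) (Algebra.adjoin ℤ (t₁ : Set R)),
        (∀ v, mapVec (Algebra.adjoin ℤ (t₁ : Set R)).val.toRingHom (g₁ v) = G v) ∧
        ∀ (Q : Ideal (MvPolynomial (Fin n) (Algebra.adjoin ℤ (t₁ : Set R)))) [Q.IsPrime],
          Module.Flat (Algebra.adjoin ℤ (t₁ : Set R)) (QuotAt g₁ Q) := by
    by_cases hflat : Module.Flat R (Quot G)
    · obtain ⟨s, g₁, h₁, h₂⟩ := exists_flat_level G fun q ↦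
        flat_localized q.asIdeal.primeCompl (LocalizedModule.mkLinearMap q.asIdeal.primeCompl (Quot G))
      exact ⟨s, fun _ ↦ ⟨g₁, h₁, h₂⟩⟩
    · exact ⟨∅, fun h ↦ absurd h hflat⟩
  let s := t₀ ∪ t₁
  let R₀ := Algebra.adjoin ℤ (s : Set R)
  have hs : ∀ x ∈ t₀, x ∈ R₀ := fun x hx ↦
    Algebra.subset_adjoin (Finset.mem_union_left _ hx)
  obtain ⟨f₀, hf₀⟩ := exists_lift_vec R₀ f fun i x hx ↦ hs x (Finset.mem_union_left _
    (Finset.mem_biUnion.2 ⟨i, Finset.mem_univ _, hx⟩))
  choose g₀ hg₀ using fun v ↦ exists_lift_vec R₀ (g v) fun i x hx ↦ hs x (Finset.mem_union_right _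
    (Finset.mem_biUnion.2 ⟨v, Finset.mem_univ _, Finset.mem_biUnion.2 ⟨i, Finset.mem_univ _, hx⟩⟩))
  refine ⟨s, f₀, g₀, congrFun hf₀, hg₀, fun hflat ↦ ?_⟩
  obtain ⟨g₁, hg₁, hfl₁⟩ := ht₁ hflat
  have hle : Algebra.adjoin ℤ (t₁ : Set R) ≤ R₀ :=
    Algebra.adjoin_mono (Finset.coe_subset.2 Finset.subset_union_right)
  let j : Algebra.adjoin ℤ (t₁ : Set R) →+* R₀ := (Subalgebra.inclusion hle).toRingHom
  refine flat_of_forall_prime (S := MvPolynomial (Fin n) R₀) fun Q _ ↦ ?_
  have := hfl₁ (Q.comap (MvPolynomial.map j))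
  refine flat_of_map j g₁ (allRel f₀ g₀) (fun v ↦ funext fun i ↦ ?_) Q _ rfl
  apply MvPolynomial.map_injective R₀.val.toRingHom Subtype.val_injective
  have e1 := congrFun (hg₁ v) i
  have e2 := congrFun (mapVec_allRel R₀.val.toRingHom (congrFun hf₀) hg₀ v) i
  simp only [mapVec_apply] at e1 e2 ⊢
  rw [MvPolynomial.map_map, e2]
  exact e1

variable {S : Type u} [CommRing S] [Algebra R S]

/-- The quotient algebra base changes correctly. -/
theorem isPushout_quotient (π : MvPolynomial (Fin n) R →ₐ[R] S) (hπ : Function.Surjective π)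
    (f : Fin l → MvPolynomial (Fin n) R) (hker : RingHom.ker π.toRingHom = Ideal.span (Set.range f))
    {R₀ : Type u} [CommRing R₀] [Algebra R₀ R] (f₀ : Fin l → MvPolynomial (Fin n) R₀)
    (hf : ∀ i, MvPolynomial.map (algebraMap R₀ R) (f₀ i) = f i)
    [Algebra R₀ S] [IsScalarTower R₀ R S]
    {S₀ : Type u} [CommRing S₀] [Algebra R₀ S₀] [Algebra S₀ S] [IsScalarTower R₀ S₀ S]
    (π₀ : MvPolynomial (Fin n) R₀ →ₐ[R₀] S₀) (hπ₀ : Function.Surjective π₀)
    (hf₀ : ∀ i, π₀ (f₀ i) = 0)
    (hcompat : ∀ p, algebraMap S₀ S (π₀ p) = π (MvPolynomial.map (algebraMap R₀ R) p)) :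
    Algebra.IsPushout R₀ R S₀ S := by
  let e₁ : R ⊗[R₀] S₀ →ₐ[R] S :=
    Algebra.TensorProduct.lift (Algebra.ofId R S) (IsScalarTower.toAlgHom R₀ S₀ S)
      (fun _ _ ↦ Commute.all _ _)
  let b : MvPolynomial (Fin n) R →ₐ[R] R ⊗[R₀] S₀ :=
    MvPolynomial.aeval fun i : Fin n ↦ (1 : R) ⊗ₜ[R₀] π₀ (X i)
  have hb : ∀ p, b (MvPolynomial.map (algebraMap R₀ R) p) = (1 : R) ⊗ₜ[R₀] π₀ p := by
    intro p
    have : (b.restrictScalars R₀).comp
        ((MvPolynomial.mapAlgHom (Algebra.ofId R₀ R)) : MvPolynomial (Fin n) R₀ →ₐ[R₀] MvPolynomial (Fin n) R) =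
        Algebra.TensorProduct.includeRight.comp π₀ :=
      MvPolynomial.algHom_ext fun i ↦ by simp [b]
    exact AlgHom.congr_fun this p
  have hbker : RingHom.ker π.toRingHom ≤ RingHom.ker b.toRingHom := by
    rw [hker, Ideal.span_le]
    rintro _ ⟨i, rfl⟩
    show b (f i) = 0
    rw [← hf, hb, hf₀, TensorProduct.tmul_zero]
  let e₂ : S →ₐ[R] R ⊗[R₀] S₀ := AlgHom.liftOfSurjective π hπ b hbker
  have he₂ : ∀ p, e₂ (π p) = b p := AlgHom.liftOfSurjective_apply π hπ b hbker
  have h12 : e₁.comp b = π := MvPolynomial.algHom_ext fun i ↦ by simp [e₁, b, hcompat]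
  let e : R ⊗[R₀] S₀ ≃ₐ[R] S := AlgEquiv.ofAlgHom e₁ e₂
    (AlgHom.ext fun x ↦ by
      obtain ⟨p, rfl⟩ := hπ x
      rw [AlgHom.comp_apply, he₂, AlgHom.id_apply]
      exact AlgHom.congr_fun h12 p)
    (Algebra.TensorProduct.ext' fun r x ↦ by
      obtain ⟨p, rfl⟩ := hπ₀ x
      rw [AlgHom.comp_apply, AlgHom.id_apply,
        show e₁ (r ⊗ₜ π₀ p) = r • π (MvPolynomial.map (algebraMap R₀ R) p) by
          simp [e₁, hcompat, Algebra.smul_def], map_smul, he₂, hb, TensorProduct.smul_tmul',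
        smul_eq_mul, mul_one])
  let : Algebra S₀ (R ⊗[R₀] S₀) := Algebra.TensorProduct.rightAlgebra
  have : Algebra.IsPushout R₀ R S₀ (R ⊗[R₀] S₀) := TensorProduct.isPushout
  refine Algebra.IsPushout.of_equiv e (RingHom.ext fun x ↦ ?_)
  show e₁ ((1 : R) ⊗ₜ x) = _
  simp [e₁]

/-- The presented module base changes correctly. -/
theorem isBaseChange_module {P₀ P S₀ S M₀ M : Type u} [CommRing P₀] [CommRing P] [CommRing S₀]
    [CommRing S] [AddCommGroup M₀] [AddCommGroup M] [Algebra P₀ P] [Algebra P₀ S₀] [Algebra P S]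
    [Algebra S₀ S] [Algebra P₀ S] [IsScalarTower P₀ P S] [IsScalarTower P₀ S₀ S]
    [Module P₀ M₀] [Module S₀ M₀] [IsScalarTower P₀ S₀ M₀] [Module P M] [Module S M]
    [IsScalarTower P S M] [Module P₀ M] [IsScalarTower P₀ P M] [IsScalarTower P₀ S M]
    [Module S₀ M] [IsScalarTower S₀ S M] [IsScalarTower P₀ S₀ M]
    (h₀ : Function.Surjective (algebraMap P₀ S₀)) (h : Function.Surjective (algebraMap P S))
    (φ : M₀ →ₗ[P₀] M) (hφ : IsBaseChange P φ) (F : M₀ →ₗ[S₀] M) (hF : ∀ x, F x = φ x) :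
    IsBaseChange S F := by
  have h1 : IsBaseChange S (((LinearMap.id : M →ₗ[P] M).restrictScalars P₀).comp φ) :=
    hφ.comp (isBaseChange_id h)
  refine IsBaseChange.of_comp (isBaseChange_id h₀) ?_
  convert h1 using 1
  exact LinearMap.ext hF

theorem tower_of_lift {A P B : Type*} [CommRing A] [CommRing P] [CommRing B] [Algebra A P]
    [Algebra A B] (I : Ideal P) (ψ : P →+* B) (hI : ∀ a ∈ I, ψ a = 0)
    (h : ∀ a, ψ (algebraMap A P a) = algebraMap A B a) :
    letI := (Ideal.Quotient.lift I ψ hI).toAlgebra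
    IsScalarTower A (P ⧸ I) B := by
  let : Algebra (P ⧸ I) B := (Ideal.Quotient.lift I ψ hI).toAlgebra
  refine IsScalarTower.of_algebraMap_eq fun a ↦ ?_
  rw [← Ideal.Quotient.mk_algebraMap]
  exact ((Ideal.Quotient.lift_mk I ψ hI).trans (h a)).symm

theorem tower_module {P M : Type*} [CommRing P] [AddCommGroup M] [Module P M] (I : Ideal P)
    (i : Module (P ⧸ I) M) (h : ∀ (a : P) (m : M), Ideal.Quotient.mk I a • m = a • m) :
    IsScalarTower P (P ⧸ I) M := ⟨fun a x m ↦ by
  obtain ⟨x, rfl⟩ := Ideal.Quotient.mk_surjective x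
  rw [show a • Ideal.Quotient.mk I x = Ideal.Quotient.mk I (a * x) from rfl, h, h, mul_smul]⟩

/-- A finitely presented algebra and module come from a model over a finitely generated ring, flat
if the module is flat. -/
theorem exists_model (R S M : Type u) [CommRing R] [CommRing S] [Algebra R S]
    [Algebra.FinitePresentation R S] [AddCommGroup M] [Module S M] [Module R M]
    [IsScalarTower R S M] [Module.FinitePresentation S M] :
    ∃ (R₀ : Type u) (_ : CommRing R₀) (_ : Algebra R₀ R) (S₀ : Type u) (_ : CommRing S₀)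
      (_ : Algebra R₀ S₀) (_ : Algebra S₀ S) (_ : Algebra R₀ S) (_ : IsScalarTower R₀ R S)
      (_ : IsScalarTower R₀ S₀ S) (M₀ : Type u) (_ : AddCommGroup M₀) (_ : Module S₀ M₀)
      (_ : Module R₀ M₀) (_ : IsScalarTower R₀ S₀ M₀) (_ : Module S₀ M) (_ : IsScalarTower S₀ S M)
      (F : M₀ →ₗ[S₀] M),
      Algebra.FiniteType ℤ R₀ ∧ Algebra.FiniteType R₀ S₀ ∧ Module.Finite S₀ M₀ ∧
        Algebra.IsPushout R₀ R S₀ S ∧ IsBaseChange S F ∧
        (Module.Flat R M → Module.Flat R₀ M₀) := by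
  classical
  obtain ⟨n, π, hπ, hker⟩ := Algebra.FinitePresentation.out (R := R) (A := S)
  obtain ⟨l, f, hf⟩ := Submodule.fg_iff_exists_fin_generating_family.1 hker
  let P := MvPolynomial (Fin n) R
  let : Algebra P S := π.toRingHom.toAlgebra
  let : Module P M := Module.compHom M π.toRingHom
  have : IsScalarTower P S M := ⟨fun p s x ↦ by
    rw [Algebra.smul_def, mul_smul]
    rfl⟩
  have : IsScalarTower R P M := ⟨fun r p x ↦ by
    show π (r • p) • x = r • π p • x
    rw [map_smul, smul_assoc]⟩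
  have : Module.FinitePresentation P S :=
    Module.finitePresentation_of_surjective (Algebra.linearMap P S) hπ hker
  have : Module.FinitePresentation P M := Module.FinitePresentation.trans P M S
  obtain ⟨m, K, eK, hK⟩ := Module.FinitePresentation.exists_fin P M
  obtain ⟨k, g, hg⟩ := Submodule.fg_iff_exists_fin_generating_family.1 hK
  have hrel : rel (allRel f g) = K := by
    refine le_antisymm (Submodule.span_le.2 ?_) (hg ▸ Submodule.span_le.2 ?_)
    · rintro _ ⟨v | ⟨i, j⟩, rfl⟩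
      · exact hg ▸ Submodule.subset_span (Set.mem_range_self v)
      · show Pi.single j (f i) ∈ K
        rw [← Submodule.Quotient.mk_eq_zero K, show (Pi.single j (f i) : Fin m → P) =
          f i • Pi.single j 1 by rw [← Pi.single_smul, smul_eq_mul, mul_one],
          Submodule.Quotient.mk_smul]
        apply eK.symm.injective
        rw [map_smul, map_zero]
        show π (f i) • _ = (0 : M)
        have hfi : π (f i) = 0 :=
          (hf ▸ Submodule.subset_span (Set.mem_range_self i) : f i ∈ RingHom.ker π.toRingHom)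
        rw [hfi, zero_smul]
    · rintro _ ⟨v, rfl⟩
      exact Submodule.subset_span ⟨Sum.inl v, rfl⟩
  let e : Quot (allRel f g) ≃ₗ[P] M := (Submodule.quotEquivOfEq _ _ hrel).trans eK.symm
  obtain ⟨s, f₀, g₀, hf₀, hg₀, hfl⟩ := exists_fg_level f g
  let R₀ := Algebra.adjoin ℤ (s : Set R)
  let P₀ := MvPolynomial (Fin n) R₀
  let : Algebra P₀ P := (MvPolynomial.map R₀.val.toRingHom).toAlgebra
  let I₀ : Ideal P₀ := Ideal.span (Set.range f₀)
  let S₀ := P₀ ⧸ I₀
  let πR : P₀ →+* S := π.toRingHom.comp (MvPolynomial.map R₀.val.toRingHom)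
  have hI : ∀ a ∈ I₀, πR a = 0 := fun a ha ↦ by
    refine (Ideal.span_le (I := RingHom.ker πR)).2 ?_ ha
    rintro _ ⟨i, rfl⟩
    show π (MvPolynomial.map R₀.val.toRingHom (f₀ i)) = 0
    rw [hf₀]
    exact (hf ▸ Submodule.subset_span (Set.mem_range_self i) : f i ∈ RingHom.ker π.toRingHom)
  let : Algebra S₀ S := (Ideal.Quotient.lift I₀ πR hI).toAlgebra
  have : IsScalarTower R₀ S₀ S := tower_of_lift I₀ πR hI fun r ↦ by
    show π (MvPolynomial.map R₀.val.toRingHom (C r)) = _
    rw [map_C, ← MvPolynomial.algebraMap_eq, AlgHom.commutes]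
    exact (IsScalarTower.algebraMap_apply R₀ R S r).symm
  let : Algebra P₀ S := πR.toAlgebra
  have : IsScalarTower P₀ P S := .of_algebraMap_eq fun _ ↦ rfl
  have : IsScalarTower P₀ S₀ S := tower_of_lift I₀ πR hI fun _ ↦ rfl
  let G₀ := allRel f₀ g₀
  let : Module S₀ (Quot G₀) := (isTorsionBySet_allRel f₀ g₀).module
  have : IsScalarTower P₀ S₀ (Quot G₀) := (isTorsionBySet_allRel f₀ g₀).isScalarTower
  have : IsScalarTower R₀ S₀ (Quot G₀) := (isTorsionBySet_allRel f₀ g₀).isScalarTower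
  let : Module S₀ M := Module.compHom M (Ideal.Quotient.lift I₀ πR hI)
  have : IsScalarTower S₀ S M := IsScalarTower.of_algebraMap_smul fun _ _ ↦ rfl
  let : Module P₀ M := Module.compHom M πR
  have : IsScalarTower P₀ P M := IsScalarTower.of_algebraMap_smul fun _ _ ↦ rfl
  have : IsScalarTower P₀ S M := IsScalarTower.of_algebraMap_smul fun _ _ ↦ rfl
  have : IsScalarTower P₀ S₀ M := tower_module I₀ _ fun _ _ ↦ rfl
  have hG : ∀ v i, allRel f g v i = algebraMap P₀ P (G₀ v i) := fun v i ↦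
    (congrFun (mapVec_allRel R₀.val.toRingHom hf₀ hg₀ v) i).symm
  let φ : Quot G₀ →ₗ[P₀] M :=
    (e.toLinearMap.restrictScalars P₀).comp (Flat55.Presented.quotMap G₀ (allRel f g) hG)
  have hφ : IsBaseChange P φ :=
    (Flat55.Presented.isBaseChange_quotMap G₀ (allRel f g) hG).comp (IsBaseChange.ofEquiv e)
  have hsS : Function.Surjective (algebraMap P₀ S₀) := Ideal.Quotient.mk_surjective
  let F : Quot G₀ →ₗ[S₀] M :=
    { φ with
      map_smul' := fun a x ↦ by
        obtain ⟨a, rfl⟩ := hsS a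
        simp [algebraMap_smul] }
  have hbc :=
    isBaseChange_module (P₀ := P₀) (P := P) (S₀ := S₀) (S := S) (M₀ := Flat55.Relations.Quot G₀) (M := M)
      hsS hπ φ hφ F (fun _ ↦ rfl)
  have hR₀ : Algebra.FiniteType ℤ R₀ :=
    R₀.fg_iff_finiteType.1 (Subalgebra.fg_adjoin_finset s)
  refine ⟨R₀, inferInstance, inferInstance, S₀, inferInstance, inferInstance, inferInstance,
    inferInstance, inferInstance, inferInstance, Quot G₀, inferInstance, inferInstance,
    inferInstance, inferInstance, inferInstance, inferInstance, F, hR₀, ?_, ?_, ?_, hbc, ?_⟩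
  · exact Algebra.FiniteType.of_surjective (Ideal.Quotient.mkₐ R₀ I₀) Ideal.Quotient.mk_surjective
  · have : Module.Finite P₀ (Fin m → P₀) := Module.Finite.of_basis (Pi.basisFun P₀ (Fin m))
    have : Module.Finite P₀ (Quot G₀) :=
      Module.Finite.of_surjective (rel G₀).mkQ (Submodule.mkQ_surjective _)
    exact Module.Finite.of_restrictScalars_finite P₀ S₀ _
  · exact isPushout_quotient π hπ f hf.symm f₀ hf₀ (Ideal.Quotient.mkₐ R₀ I₀)
      Ideal.Quotient.mk_surjective
      (fun i ↦ Ideal.Quotient.eq_zero_iff_mem.2 (Ideal.subset_span (Set.mem_range_self i)))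
      (fun _ ↦ rfl)
  · intro hM
    exact hfl (Module.Flat.of_linearEquiv (e.restrictScalars R))

end Groth.Agent.H19.FlatLocus.Model
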