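import Groth.Agent.H19.FlatLocus.Noetherian
import Groth.Agent.Lib.Flat55.Approx

/-!
# Openness of the flat locus and descent of flatness to finitely generated rings

For a presented module over a polynomial ring over an arbitrary ring, flatness at a prime comes
from a finitely generated subring, where it holds on a neighbourhood.
-/

set_option autoImplicit false
set_option backward.isDefEq.respectTransparency false

set_option maxHeartbeats 1200000
set_option synthInstance.maxHeartbeats 80000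

universe u

open MvPolynomial
open Groth.Agent.Lib.Flat55.Relations

namespace Groth.Agent.H19.FlatLocus

variable {σ ι κ : Type} [Finite σ] [Finite ι] [Fintype κ] {R : Type u} [CommRing R]

omit [Finite σ] [Finite ι] [Fintype κ] in
lemma exists_coeffs_preimage {A B : Type u} [CommRing A] [CommRing B] (φ : A →+* B)
    (p : MvPolynomial σ B) (h : ↑p.coeffs ⊆ Set.range φ) : ∃ p', MvPolynomial.map φ p' = p :=
  MvPolynomial.mem_range_map_iff_coeffs_subset.2 h

omit [Finite σ] [Finite ι] [Fintype κ] in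
lemma mapVec_comp {A B C' : Type u} [CommRing A] [CommRing B] [CommRing C'] (φ : A →+* B)
    (ψ : B →+* C') (f : ι → MvPolynomial σ A) :
    mapVec ψ (mapVec φ f) = mapVec (ψ.comp φ) f :=
  funext fun i ↦ by simp [MvPolynomial.map_map]

omit [Finite σ] [Finite ι] [Fintype κ] in
lemma comap_map_map {A B C' : Type u} [CommRing A] [CommRing B] [CommRing C'] (φ : A →+* B)
    (ψ : B →+* C') (Q : Ideal (MvPolynomial σ C')) :
    (Q.comap (MvPolynomial.map ψ)).comap (MvPolynomial.map φ) =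
      Q.comap (MvPolynomial.map (ψ.comp φ)) := by
  ext x
  simp [MvPolynomial.map_map]

omit [Fintype κ] in
lemma isOpen_flat_quot_noetherian {A : Type u} [CommRing A] [IsNoetherianRing A]
    (g : κ → ι → MvPolynomial σ A) :
    IsOpen {q : PrimeSpectrum (MvPolynomial σ A) | Module.Flat A (QuotAt g q.asIdeal)} := by
  cases nonempty_fintype ι
  have : Module.Finite (MvPolynomial σ A) (ι → MvPolynomial σ A) :=
    Module.Finite.of_basis (Pi.basisFun (MvPolynomial σ A) ι)
  have : Module.Finite (MvPolynomial σ A) (Quot g) :=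
    Module.Finite.of_surjective (rel g).mkQ (Submodule.mkQ_surjective _)
  exact isOpen_flat_of_noetherian (R := A) (S := MvPolynomial σ A) (M := Quot g)

/-- Flatness at a prime comes, on a neighbourhood, from a finitely generated subring. -/
theorem exists_level (g : κ → ι → MvPolynomial σ R) (q : Ideal (MvPolynomial σ R)) [q.IsPrime]
    [Module.Flat R (QuotAt g q)] :
    ∃ (s : Finset R) (g₁ : κ → ι → MvPolynomial σ (Algebra.adjoin ℤ (s : Set R)))
      (a : MvPolynomial σ (Algebra.adjoin ℤ (s : Set R))),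
      (∀ v, mapVec (Algebra.adjoin ℤ (s : Set R)).val.toRingHom (g₁ v) = g v) ∧
      MvPolynomial.map (Algebra.adjoin ℤ (s : Set R)).val.toRingHom a ∉ q ∧
      ∀ (Q : Ideal (MvPolynomial σ (Algebra.adjoin ℤ (s : Set R)))) [Q.IsPrime], a ∉ Q →
        Module.Flat (Algebra.adjoin ℤ (s : Set R)) (QuotAt g₁ Q) := by
  classical
  cases nonempty_fintype ι
  -- localise the base
  let p : Ideal R := q.comap C
  let Rp := Localization.AtPrime p
  let α : R →+* Rp := algebraMap R Rp
  let : Algebra (MvPolynomial σ R) (MvPolynomial σ Rp) := (MvPolynomial.map α).toAlgebra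
  have : IsLocalization (p.primeCompl.map (C : R →+* MvPolynomial σ R)) (MvPolynomial σ Rp) :=
    MvPolynomial.isLocalization p.primeCompl Rp
  have hdisj : Disjoint ((p.primeCompl.map (C : R →+* MvPolynomial σ R)) : Set (MvPolynomial σ R))
      (q : Set (MvPolynomial σ R)) := by
    rw [Set.disjoint_left]
    rintro _ ⟨r, hr, rfl⟩ h
    exact hr h
  let qp : Ideal (MvPolynomial σ Rp) := q.map (MvPolynomial.map α)
  have : qp.IsPrime := IsLocalization.isPrime_of_isPrime_disjoint _ _ q ‹_› hdisj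
  have hqp : qp.comap (MvPolynomial.map α) = q :=
    IsLocalization.under_map_of_isPrime_disjoint _ (MvPolynomial σ Rp) ‹_› hdisj
  have hqC : qp.comap C = IsLocalRing.maximalIdeal Rp := by
    refine (IsLocalization.map_under p.primeCompl Rp _).symm.trans ?_
    rw [Ideal.under_def, Ideal.comap_comap, show (C : Rp →+* MvPolynomial σ Rp).comp (algebraMap R Rp) =
      (MvPolynomial.map α).comp C from RingHom.ext fun r ↦ (map_C _ _).symm, ← Ideal.comap_comap,
      hqp]
    exact Localization.AtPrime.map_eq_maximalIdeal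
  let gp : κ → ι → MvPolynomial σ Rp := fun v ↦ mapVec α (g v)
  have : Module.Flat Rp (QuotAt gp qp) := flat_of_map α g gp (fun _ ↦ rfl) qp q hqp
  obtain ⟨S, hS⟩ := Groth.Agent.Lib.Flat55.Approx.exists_finset_forall_witness gp qp
    (witness_of_flat gp qp)
  -- first finitely generated level
  choose nd hnd using fun x : Rp ↦ IsLocalization.surj p.primeCompl x
  let Sg : Finset R := Finset.univ.biUnion fun v : κ ↦ Finset.univ.biUnion fun i : ι ↦ (g v i).coeffs
  let s₀ : Finset R := Sg ∪ S.image (fun x ↦ (nd x).1) ∪ S.image (fun x ↦ ((nd x).2 : R))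
  let R₀ := Algebra.adjoin ℤ (s₀ : Set R)
  have : Algebra.FiniteType ℤ R₀ :=
    R₀.fg_iff_finiteType.1 (Subalgebra.fg_adjoin_finset s₀)
  have : IsNoetherianRing R₀ := Algebra.FiniteType.isNoetherianRing ℤ R₀
  let p₀ : Ideal R₀ := p.comap R₀.val.toRingHom
  let A₀ := Localization.AtPrime p₀
  have : IsNoetherianRing A₀ := IsLocalization.isNoetherianRing p₀.primeCompl A₀ inferInstance
  let θ : A₀ →+* Rp := Localization.localRingHom p₀ p R₀.val.toRingHom rfl
  let R' : Subring Rp := θ.range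
  have hθs : Function.Surjective θ.rangeRestrict := θ.rangeRestrict_surjective
  have : IsLocalRing R' := IsLocalRing.of_surjective' θ.rangeRestrict hθs
  have : IsNoetherianRing R' := isNoetherianRing_of_surjective _ _ θ.rangeRestrict hθs
  have : IsLocalHom R'.subtype := ⟨fun x hx ↦ by
    obtain ⟨y, rfl⟩ := hθs x
    exact (IsLocalHom.map_nonunit (f := θ) y hx).map θ.rangeRestrict⟩
  have hSR' : (S : Set Rp) ⊆ R' := fun x hx ↦ by
    have h₁ : (nd x).1 ∈ R₀ := Algebra.subset_adjoin (Finset.mem_union_left _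
      (Finset.mem_union_right _ (Finset.mem_image_of_mem _ hx)))
    have h₂ : ((nd x).2 : R) ∈ R₀ := Algebra.subset_adjoin
      (Finset.mem_union_right _ (Finset.mem_image_of_mem _ hx))
    refine ⟨IsLocalization.mk' A₀ ⟨_, h₁⟩ (⟨⟨_, h₂⟩, (nd x).2.2⟩ : p₀.primeCompl), ?_⟩
    refine (Localization.localRingHom_mk' p₀ p _ rfl _ _).trans
      (IsLocalization.mk'_eq_iff_eq_mul.2 (hnd x).symm)
  -- lift the relations
  have hg₀ : ∀ v, ∃ g₀ : ι → MvPolynomial σ R₀, mapVec R₀.val.toRingHom g₀ = g v := fun v ↦ by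
    choose f hf using fun i ↦ exists_coeffs_preimage R₀.val.toRingHom (g v i) fun x hx ↦
      ⟨⟨x, Algebra.subset_adjoin (Finset.mem_union_left _ (Finset.mem_union_left _
        (Finset.mem_biUnion.2 ⟨v, Finset.mem_univ _, Finset.mem_biUnion.2
          ⟨i, Finset.mem_univ _, hx⟩⟩)))⟩, rfl⟩
    exact ⟨f, funext hf⟩
  choose g₀ hg₀ using hg₀
  have hθα : θ.comp (algebraMap R₀ A₀) = α.comp R₀.val.toRingHom :=
    RingHom.ext fun r ↦ Localization.localRingHom_to_map p₀ p _ rfl r
  let g' : κ → ι → MvPolynomial σ R' :=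
    fun v ↦ mapVec (θ.rangeRestrict.comp (algebraMap R₀ A₀)) (g₀ v)
  have hg' : ∀ v, mapVec R'.subtype (g' v) = gp v := fun v ↦ by
    rw [mapVec_comp, show R'.subtype.comp (θ.rangeRestrict.comp (algebraMap R₀ A₀)) =
      θ.comp (algebraMap R₀ A₀) from rfl, hθα, ← mapVec_comp, hg₀]
  let q' := qp.comap (Groth.Agent.Lib.Flat55.Approx.incl (σ := σ) R')
  have hq'C : q'.comap C = IsLocalRing.maximalIdeal R' := by
    ext r
    rw [Ideal.mem_comap, Ideal.mem_comap, map_C, ← Ideal.mem_comap, hqC,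
      IsLocalRing.mem_maximalIdeal, IsLocalRing.mem_maximalIdeal, mem_nonunits_iff,
      mem_nonunits_iff, isUnit_map_iff R'.subtype]
  have : Module.Flat R' (QuotAt g' q') := flat_of_witness g' q' hq'C (hS R' hSR' g' hg')
  -- kill the kernel
  obtain ⟨Z, hZ⟩ := IsNoetherian.noetherian (RingHom.ker θ)
  choose za hza using fun z : Z ↦ IsLocalization.exists_mk'_eq p₀.primeCompl (z : A₀)
  choose zb hzb using hza
  have hker : ∀ z : Z, ∃ t : R, t ∉ p ∧ t * (za z : R) = 0 := fun z ↦ by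
    have h0 : θ z = 0 := (hZ ▸ Submodule.subset_span z.2 : (z : A₀) ∈ RingHom.ker θ)
    rw [← hzb z, Localization.localRingHom_mk', IsLocalization.mk'_eq_zero_iff] at h0
    obtain ⟨⟨t, ht⟩, h⟩ := h0
    exact ⟨t, ht, h⟩
  choose t ht hta using hker
  let s₁ : Finset R := s₀ ∪ Finset.univ.image t
  let R₁ := Algebra.adjoin ℤ (s₁ : Set R)
  have hle : R₀ ≤ R₁ := Algebra.adjoin_mono (Finset.coe_subset.2 Finset.subset_union_left)
  have : Algebra.FiniteType ℤ R₁ :=
    R₁.fg_iff_finiteType.1 (Subalgebra.fg_adjoin_finset s₁)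
  have : IsNoetherianRing R₁ := Algebra.FiniteType.isNoetherianRing ℤ R₁
  let j : R₀ →+* R₁ := (Subalgebra.inclusion hle).toRingHom
  let p₁ : Ideal R₁ := p.comap R₁.val.toRingHom
  let A₁ := Localization.AtPrime p₁
  let θ₀₁ : A₀ →+* A₁ := Localization.localRingHom p₀ p₁ j rfl
  let θ₁ : A₁ →+* Rp := Localization.localRingHom p₁ p R₁.val.toRingHom rfl
  have hθcomp : θ₁.comp θ₀₁ = θ :=
    (Localization.localRingHom_comp p₀ p₁ p j rfl R₁.val.toRingHom rfl).symm
  have hker' : RingHom.ker θ.rangeRestrict ≤ RingHom.ker θ₀₁ := by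
    rw [RingHom.ker_rangeRestrict, ← hZ, Submodule.span_le]
    intro z hz
    rw [SetLike.mem_coe, RingHom.mem_ker, show z = _ from (hzb ⟨z, hz⟩).symm,
      Localization.localRingHom_mk', IsLocalization.mk'_eq_zero_iff]
    exact ⟨⟨⟨t ⟨z, hz⟩, Algebra.subset_adjoin (Finset.mem_union_right _
      (Finset.mem_image_of_mem _ (Finset.mem_univ _)))⟩, ht ⟨z, hz⟩⟩, Subtype.ext (hta ⟨z, hz⟩)⟩
  let χ : R' →+* A₁ := θ.rangeRestrict.liftOfSurjective hθs ⟨θ₀₁, hker'⟩
  have hχ : χ.comp θ.rangeRestrict = θ₀₁ :=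
    RingHom.ext fun x ↦
      RingHom.liftOfRightInverse_comp_apply θ.rangeRestrict (Function.surjInv hθs)
        (Function.rightInverse_surjInv hθs) ⟨θ₀₁, hker'⟩ x
  have hχθ : θ₁.comp χ = R'.subtype := by
    refine RingHom.ext fun x ↦ ?_
    obtain ⟨y, rfl⟩ := hθs x
    show θ₁ ((χ.comp θ.rangeRestrict) y) = _
    rw [hχ, ← RingHom.comp_apply, hθcomp]
    rfl
  let gA : κ → ι → MvPolynomial σ A₁ := fun v ↦ mapVec χ (g' v)
  let QA : Ideal (MvPolynomial σ A₁) := qp.comap (MvPolynomial.map θ₁)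
  have : Module.Flat A₁ (QuotAt gA QA) := flat_of_map χ g' gA (fun _ ↦ rfl) QA q'
    ((comap_map_map χ θ₁ qp).trans (by rw [hχθ]))
  let g₁ : κ → ι → MvPolynomial σ R₁ := fun v ↦ mapVec j (g₀ v)
  have hg₁A : ∀ v, mapVec (algebraMap R₁ A₁) (g₁ v) = gA v := fun v ↦ by
    show mapVec _ (mapVec j (g₀ v)) = mapVec χ (mapVec _ (g₀ v))
    rw [mapVec_comp, mapVec_comp, ← RingHom.comp_assoc, hχ]
    congr 2
    exact RingHom.ext fun r ↦ (Localization.localRingHom_to_map p₀ p₁ j rfl r).symm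
  let Q₁ : Ideal (MvPolynomial σ R₁) := q.comap (MvPolynomial.map R₁.val.toRingHom)
  have hQ₁ : QA.comap (MvPolynomial.map (algebraMap R₁ A₁)) = Q₁ := by
    rw [comap_map_map, show θ₁.comp (algebraMap R₁ A₁) = α.comp R₁.val.toRingHom from
      RingHom.ext fun r ↦ Localization.localRingHom_to_map p₁ p _ rfl r, ← comap_map_map, hqp]
  have hfl : Module.Flat R₁ (QuotAt g₁ Q₁) :=
    flat_of_localization_base p₁.primeCompl g₁ gA hg₁A QA Q₁ hQ₁
  have hopen := isOpen_flat_quot_noetherian g₁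
  obtain ⟨_, ⟨a, rfl⟩, haQ, haU⟩ := PrimeSpectrum.isTopologicalBasis_basic_opens.exists_subset_of_mem_open
    (a := (⟨Q₁, inferInstance⟩ : PrimeSpectrum (MvPolynomial σ R₁))) hfl hopen
  refine ⟨s₁, g₁, a, fun v ↦ ?_, haQ, fun Q _ haQ' ↦ @haU ⟨Q, inferInstance⟩ haQ'⟩
  rw [mapVec_comp]
  exact hg₀ v

/-- The flat locus of a presented module is open. -/
theorem isOpen_flat_quot (g : κ → ι → MvPolynomial σ R) :
    IsOpen {q : PrimeSpectrum (MvPolynomial σ R) | Module.Flat R (QuotAt g q.asIdeal)} := by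
  rw [isOpen_iff_forall_mem_open]
  intro q hq
  have : Module.Flat R (QuotAt g q.asIdeal) := hq
  obtain ⟨s, g₁, a, hg₁, haq, hflat⟩ := exists_level g q.asIdeal
  refine ⟨_, fun q' hq' ↦ ?_,
    (PrimeSpectrum.basicOpen (MvPolynomial.map (Algebra.adjoin ℤ (s : Set R)).val.toRingHom a)).2, haq⟩
  have := hflat (q'.asIdeal.comap (MvPolynomial.map (Algebra.adjoin ℤ (s : Set R)).val.toRingHom))
    (fun h ↦ hq' h)
  exact flat_of_map _ g₁ g hg₁ q'.asIdeal _ rfl

/-- Flatness everywhere comes from a finitely generated subring. -/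
theorem exists_flat_level (g : κ → ι → MvPolynomial σ R)
    (h : ∀ q : PrimeSpectrum (MvPolynomial σ R), Module.Flat R (QuotAt g q.asIdeal)) :
    ∃ (s : Finset R) (g₁ : κ → ι → MvPolynomial σ (Algebra.adjoin ℤ (s : Set R))),
      (∀ v, mapVec (Algebra.adjoin ℤ (s : Set R)).val.toRingHom (g₁ v) = g v) ∧
      ∀ (Q : Ideal (MvPolynomial σ (Algebra.adjoin ℤ (s : Set R)))) [Q.IsPrime],
        Module.Flat (Algebra.adjoin ℤ (s : Set R)) (QuotAt g₁ Q) := by
  classical
  cases nonempty_fintype ι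
  have := fun q : PrimeSpectrum (MvPolynomial σ R) ↦
    have := h q; exists_level g q.asIdeal
  choose s g₁ a hg₁ ha hflat using this
  let a' : PrimeSpectrum (MvPolynomial σ R) → MvPolynomial σ R :=
    fun q ↦ MvPolynomial.map (Algebra.adjoin ℤ (s q : Set R)).val.toRingHom (a q)
  have htop : Ideal.span (Set.range a') = ⊤ := by
    by_contra hne
    obtain ⟨m, hm, hle⟩ := Ideal.exists_le_maximal _ hne
    exact ha ⟨m, hm.isPrime⟩ (hle (Ideal.subset_span ⟨⟨m, hm.isPrime⟩, rfl⟩))
  obtain ⟨c, hc⟩ := Finsupp.mem_ideal_span_range_iff_exists_finsupp.1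
    ((Ideal.eq_top_iff_one _).1 htop)
  let Sg : Finset R := Finset.univ.biUnion fun v : κ ↦
    (Finset.univ : Finset ι).biUnion fun i : ι ↦ (g v i).coeffs
  let s' : Finset R := Sg ∪ c.support.biUnion (fun q ↦ s q ∪ (c q).coeffs)
  let R₂ := Algebra.adjoin ℤ (s' : Set R)
  have hg₂ : ∀ v, ∃ f : ι → MvPolynomial σ R₂, mapVec R₂.val.toRingHom f = g v := fun v ↦ by
    choose f hf using fun i ↦ exists_coeffs_preimage R₂.val.toRingHom (g v i) fun x hx ↦
      ⟨⟨x, Algebra.subset_adjoin (Finset.mem_union_left _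
        (Finset.mem_biUnion.2 ⟨v, Finset.mem_univ _, Finset.mem_biUnion.2
          ⟨i, Finset.mem_univ _, hx⟩⟩))⟩, rfl⟩
    exact ⟨f, funext hf⟩
  choose g₂ hg₂ using hg₂
  refine ⟨s', g₂, hg₂, fun Q _ ↦ ?_⟩
  have hle : ∀ q ∈ c.support, Algebra.adjoin ℤ (s q : Set R) ≤ R₂ := fun q hq ↦
    Algebra.adjoin_mono (Finset.coe_subset.2 fun x hx ↦ Finset.mem_union_right _
      (Finset.mem_biUnion.2 ⟨q, hq, Finset.mem_union_left _ hx⟩))
  let j : ∀ q ∈ c.support, Algebra.adjoin ℤ (s q : Set R) →+* R₂ :=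
    fun q hq ↦ (Subalgebra.inclusion (hle q hq)).toRingHom
  have hinj : Function.Injective (MvPolynomial.map (σ := σ) R₂.val.toRingHom) :=
    MvPolynomial.map_injective _ Subtype.val_injective
  by_cases hex : ∃ (q : PrimeSpectrum (MvPolynomial σ R)) (hq : q ∈ c.support),
      MvPolynomial.map (j q hq) (a q) ∉ Q
  · obtain ⟨q, hq, hqQ⟩ := hex
    have := hflat q (Q.comap (MvPolynomial.map (j q hq))) (fun h ↦ hqQ h)
    refine flat_of_map (j q hq) (g₁ q) g₂ (fun v ↦ funext fun i ↦ hinj ?_) Q _ rfl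
    have e1 := congrFun (hg₁ q v) i
    have e2 := congrFun (hg₂ v) i
    simp only [mapVec_apply] at e1 e2 ⊢
    rw [MvPolynomial.map_map, e2]
    exact e1
  · exfalso
    simp only [not_exists, not_not] at hex
    have hd : ∀ q : c.support, ∃ d, MvPolynomial.map R₂.val.toRingHom d = c q := fun q ↦
      exists_coeffs_preimage R₂.val.toRingHom (c q) fun x hx ↦
        ⟨⟨x, Algebra.subset_adjoin (Finset.mem_union_right _
          (Finset.mem_biUnion.2 ⟨q, q.2, Finset.mem_union_right _ hx⟩))⟩, rfl⟩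
    choose d hd using hd
    have h1 : ∑ q : c.support, d q * MvPolynomial.map (j q q.2) (a q) = 1 := hinj (by
      rw [map_sum, map_one, ← hc, Finsupp.sum, ← Finset.sum_coe_sort c.support]
      refine Finset.sum_congr rfl fun q _ ↦ ?_
      rw [map_mul, hd, MvPolynomial.map_map]
      rfl)
    refine Ideal.IsPrime.ne_top' ((Ideal.eq_top_iff_one Q).2 (h1 ▸ ?_))
    exact Submodule.sum_mem _ fun q _ ↦ Ideal.mul_mem_left _ _ (hex q q.2)

end Groth.Agent.H19.FlatLocus
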