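import Groth.Agent.H19.FlatLocus.Main
import Groth.Agent.Lib.Flat55.QCohFP
import Groth.Prelude.Def_FlatMod2
import Mathlib.AlgebraicGeometry.Morphisms.FinitePresentation
import Mathlib.RingTheory.RingHom.Flat

/-!
# The flat locus of morphisms of schemes and modules is open
-/

set_option autoImplicit false
set_option backward.isDefEq.respectTransparency false

universe u

open CategoryTheory AlgebraicGeometry TopologicalSpace Opposite
open Groth.Agent.Lib

namespace Groth.Agent.H19.FlatLocus.Scheme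

variable {X S : Scheme.{u}} (f : X ⟶ S)

theorem germ_appLE {V : S.Opens} {U : X.Opens} (e : U ≤ f ⁻¹ᵁ V) {x : X} (hx : x ∈ U)
    (s : Γ(S, V)) :
    f.stalkMap x (S.presheaf.germ V (f x) (e hx) s) = X.presheaf.germ U x hx (f.appLE V U e s) := by
  rw [Scheme.Hom.germ_stalkMap_apply]
  exact (TopCat.Presheaf.germ_res_apply X.presheaf (homOfLE e) x hx (f.app V s)).symm

/-- Flatness of a module at a point, on affine charts. -/
theorem isFlatOverAt_iff (M : X.Modules) [M.IsQuasicoherent] {V : S.Opens} (hV : IsAffineOpen V)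
    {U : X.Opens} (hU : IsAffineOpen U) (hUV : U ≤ f ⁻¹ᵁ V) {x : X} (hx : x ∈ U) :
    letI := (f.appLE V U hUV).hom.toAlgebra
    letI := Module.compHom Γ(M, U) (f.appLE V U hUV).hom
    haveI : IsScalarTower Γ(S, V) Γ(X, U) Γ(M, U) := IsScalarTower.of_algebraMap_smul fun _ _ ↦ rfl
    FlatMod.IsFlatOverAt f M x ↔
      Module.Flat Γ(S, V) (LocalizedModule (hU.primeIdealOf ⟨x, hx⟩).asIdeal.primeCompl Γ(M, U)) := by
  letI : Algebra Γ(S, V) Γ(X, U) := (f.appLE V U hUV).hom.toAlgebra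
  letI : Module Γ(S, V) Γ(M, U) := Module.compHom Γ(M, U) (f.appLE V U hUV).hom
  haveI : IsScalarTower Γ(S, V) Γ(X, U) Γ(M, U) := IsScalarTower.of_algebraMap_smul fun _ _ ↦ rfl
  have hfx : f x ∈ V := hUV hx
  let _ := TopCat.Presheaf.algebra_section_stalk S.presheaf (⟨f x, hfx⟩ : V)
  let _ := TopCat.Presheaf.algebra_section_stalk X.presheaf (⟨x, hx⟩ : U)
  have := hV.isLocalization_stalk ⟨f x, hfx⟩
  let _ := StalkLoc.Basic.moduleSections M hx
  have := StalkLoc.Basic.isLocalizedModule_germ (M := M) hU hx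
  let : Module (S.presheaf.stalk (f x)) (M.presheaf.stalk x) := FlatMod.moduleStalkOver f M x
  let : Module Γ(S, V) (M.presheaf.stalk x) :=
    Module.compHom _ (S.presheaf.germ V (f x) hfx).hom
  have : IsScalarTower Γ(S, V) (S.presheaf.stalk (f x)) (M.presheaf.stalk x) :=
    IsScalarTower.of_algebraMap_smul fun _ _ ↦ rfl
  have : IsScalarTower Γ(S, V) Γ(X, U) (M.presheaf.stalk x) :=
    IsScalarTower.of_algebraMap_smul fun a v ↦ by
      change X.presheaf.germ U x hx (f.appLE V U hUV a) • v =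
        f.stalkMap x (S.presheaf.germ V (f x) hfx a) • v
      rw [germ_appLE f hUV hx a]
  have h1 : FlatMod.IsFlatOverAt f M x ↔ Module.Flat Γ(S, V) (M.presheaf.stalk x) :=
    Module.flat_iff_of_isLocalization (S.presheaf.stalk (f x))
      (hV.primeIdealOf ⟨f x, hfx⟩).asIdeal.primeCompl (M.presheaf.stalk x)
  rw [h1, flat_iff_killed (R := Γ(S, V)) (hU.primeIdealOf ⟨x, hx⟩).asIdeal.primeCompl
      (StalkLoc.Basic.germₗ M hx),
    flat_iff_killed (R := Γ(S, V)) (hU.primeIdealOf ⟨x, hx⟩).asIdeal.primeCompl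
      (LocalizedModule.mkLinearMap (hU.primeIdealOf ⟨x, hx⟩).asIdeal.primeCompl Γ(M, U))]

/-- Flatness of a morphism at a point, on affine charts. -/
theorem flat_stalkMap_iff {V : S.Opens} (hV : IsAffineOpen V) {U : X.Opens} (hU : IsAffineOpen U)
    (hUV : U ≤ f ⁻¹ᵁ V) {x : X} (hx : x ∈ U) :
    letI := (f.appLE V U hUV).hom.toAlgebra
    (f.stalkMap x).hom.Flat ↔
      Module.Flat Γ(S, V) (LocalizedModule (hU.primeIdealOf ⟨x, hx⟩).asIdeal.primeCompl Γ(X, U)) := by
  letI : Algebra Γ(S, V) Γ(X, U) := (f.appLE V U hUV).hom.toAlgebra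
  have hfx : f x ∈ V := hUV hx
  let _ := TopCat.Presheaf.algebra_section_stalk S.presheaf (⟨f x, hfx⟩ : V)
  let _ := TopCat.Presheaf.algebra_section_stalk X.presheaf (⟨x, hx⟩ : U)
  have := hV.isLocalization_stalk ⟨f x, hfx⟩
  have := hU.isLocalization_stalk ⟨x, hx⟩
  let : Algebra (S.presheaf.stalk (f x)) (X.presheaf.stalk x) := (f.stalkMap x).hom.toAlgebra
  let : Algebra Γ(S, V) (X.presheaf.stalk x) :=
    ((f.stalkMap x).hom.comp (S.presheaf.germ V (f x) hfx).hom).toAlgebra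
  have : IsScalarTower Γ(S, V) (S.presheaf.stalk (f x)) (X.presheaf.stalk x) :=
    .of_algebraMap_eq fun _ ↦ rfl
  have : IsScalarTower Γ(S, V) Γ(X, U) (X.presheaf.stalk x) :=
    .of_algebraMap_eq fun a ↦ germ_appLE f hUV hx a
  have : IsLocalizedModule (hU.primeIdealOf ⟨x, hx⟩).asIdeal.primeCompl
      (Algebra.linearMap Γ(X, U) (X.presheaf.stalk x)) := inferInstance
  have h1 : (f.stalkMap x).hom.Flat ↔ Module.Flat Γ(S, V) (X.presheaf.stalk x) :=
    Module.flat_iff_of_isLocalization (S.presheaf.stalk (f x))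
      (hV.primeIdealOf ⟨f x, hfx⟩).asIdeal.primeCompl (X.presheaf.stalk x)
  rw [h1, flat_iff_killed (R := Γ(S, V)) (hU.primeIdealOf ⟨x, hx⟩).asIdeal.primeCompl
      (Algebra.linearMap Γ(X, U) (X.presheaf.stalk x)),
    flat_iff_killed (R := Γ(S, V)) (hU.primeIdealOf ⟨x, hx⟩).asIdeal.primeCompl
      (LocalizedModule.mkLinearMap (hU.primeIdealOf ⟨x, hx⟩).asIdeal.primeCompl Γ(X, U))]

/-- A set is open if it contains, around each of its points, the image of an open set of an affine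
chart. -/
theorem exists_nhd_of_chart {U : X.Opens} (hU : IsAffineOpen U) (P : X → Prop)
    (T : Set (PrimeSpectrum Γ(X, U))) (hT : IsOpen T)
    (h : ∀ (y : X) (hy : y ∈ U), P y ↔ hU.primeIdealOf ⟨y, hy⟩ ∈ T) {x : X} (hx : x ∈ U) (hPx : P x) :
    ∃ W ⊆ {y | P y}, IsOpen W ∧ x ∈ W := by
  refine ⟨hU.fromSpec '' T, ?_, hU.fromSpec.isOpenEmbedding.isOpenMap _ hT,
    _, (h x hx).1 hPx, hU.fromSpec_primeIdealOf ⟨x, hx⟩⟩
  rintro _ ⟨q, hq, rfl⟩
  have hy : hU.fromSpec q ∈ U := by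
    have := Set.mem_range_self (f := hU.fromSpec) q
    rwa [hU.range_fromSpec] at this
  refine (h _ hy).2 ?_
  rwa [show hU.primeIdealOf ⟨hU.fromSpec q, hy⟩ = q from
    hU.fromSpec.isOpenEmbedding.injective (hU.fromSpec_primeIdealOf ⟨_, hy⟩)]

/-- The flat locus of a morphism locally of finite presentation is open. -/
theorem isOpen_flat_stalkMap [LocallyOfFinitePresentation f] :
    IsOpen {x : X | (f.stalkMap x).hom.Flat} := by
  rw [isOpen_iff_forall_mem_open]
  intro x hx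
  obtain ⟨V, hV, hxV, -⟩ := exists_isAffineOpen_mem_and_subset (X := S) (x := f x) (U := ⊤) trivial
  obtain ⟨U, hU, hxU, hUV⟩ := exists_isAffineOpen_mem_and_subset (X := X) (x := x) (U := f ⁻¹ᵁ V) hxV
  let : Algebra Γ(S, V) Γ(X, U) := (f.appLE V U hUV).hom.toAlgebra
  have : Algebra.FinitePresentation Γ(S, V) Γ(X, U) :=
    HasRingHomProperty.appLE @LocallyOfFinitePresentation f inferInstance ⟨V, hV⟩ ⟨U, hU⟩ hUV
  exact exists_nhd_of_chart hU _ _ (isOpen_flat_of_finitePresentation (R := Γ(S, V)) (M := Γ(X, U)))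
    (fun y hy ↦ flat_stalkMap_iff f hV hU hUV hy) hxU hx

/-- The flat locus of a finitely presented quasi-coherent module is open. -/
theorem isOpen_isFlatOverAt [LocallyOfFinitePresentation f] (M : X.Modules) [M.IsQuasicoherent]
    [SheafOfModules.IsFinitePresentation (R := X.ringCatSheaf) M] :
    IsOpen {x : X | FlatMod.IsFlatOverAt f M x} := by
  rw [isOpen_iff_forall_mem_open]
  intro x hx
  obtain ⟨V, hV, hxV, -⟩ := exists_isAffineOpen_mem_and_subset (X := S) (x := f x) (U := ⊤) trivial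
  obtain ⟨U, hU, hxU, hUV, hfp⟩ := Flat55.QCohFP.exists_affine_le M x (f ⁻¹ᵁ V) hxV
  let : Algebra Γ(S, V) Γ(X, U) := (f.appLE V U hUV).hom.toAlgebra
  let : Module Γ(S, V) Γ(M, U) := Module.compHom Γ(M, U) (f.appLE V U hUV).hom
  have : IsScalarTower Γ(S, V) Γ(X, U) Γ(M, U) := IsScalarTower.of_algebraMap_smul fun _ _ ↦ rfl
  have : Algebra.FinitePresentation Γ(S, V) Γ(X, U) :=
    HasRingHomProperty.appLE @LocallyOfFinitePresentation f inferInstance ⟨V, hV⟩ ⟨U, hU⟩ hUV
  exact exists_nhd_of_chart hU _ _ (isOpen_flat_of_finitePresentation (R := Γ(S, V)) (M := Γ(M, U)))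
    (fun y hy ↦ isFlatOverAt_iff f M hV hU hUV hy) hxU hx

end Groth.Agent.H19.FlatLocus.Scheme
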