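import Groth.Agent.H19.FlatLocus.Approx
import Mathlib.RingTheory.Finiteness.Small
import Mathlib.Algebra.Module.FinitePresentation
import Mathlib.RingTheory.FinitePresentation

/-!
# Openness of the flat locus for finitely presented algebras and modules
-/

set_option autoImplicit false
set_option backward.isDefEq.respectTransparency false

universe u

open TensorProduct
open Groth.Agent.Lib.Flat55.Relations

namespace Groth.Agent.H19.FlatLocus

variable {R S M : Type u} [CommRing R] [CommRing S] [Algebra R S] [AddCommGroup M] [Module R M]
  [Module S M] [IsScalarTower R S M]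

/-- A finitely presented module over a finitely presented algebra is presented by finitely many
relations over a polynomial ring, compatibly with flatness at primes. -/
theorem exists_presentation [Algebra.FinitePresentation R S] [Module.FinitePresentation S M] :
    ∃ (n m k : ℕ) (π : MvPolynomial (Fin n) R →ₐ[R] S)
      (g : Fin k → Fin m → MvPolynomial (Fin n) R) (e : M ≃ₗ[R] Quot g),
      Function.Surjective π ∧ (∀ p x, e (π p • x) = p • e x) ∧
      ∀ (q : Ideal S) [q.IsPrime], Module.Flat R (LocalizedModule q.primeCompl M) ↔
        Module.Flat R (QuotAt g (q.comap π)) := by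
  classical
  obtain ⟨n, π, hπ, hker⟩ := Algebra.FinitePresentation.out (R := R) (A := S)
  let P := MvPolynomial (Fin n) R
  let : Algebra P S := π.toRingHom.toAlgebra
  let : Module P M := Module.compHom M π.toRingHom
  have : IsScalarTower P S M := ⟨fun p s x ↦ by
    rw [Algebra.smul_def, mul_smul]
    rfl⟩
  have : IsScalarTower R P M := ⟨fun r p x ↦ by
    show π (r • p) • x = r • π p • x
    rw [map_smul, smul_assoc]⟩
  have : Module.FinitePresentation P S :=
    Module.finitePresentation_of_surjective (Algebra.linearMap P S) hπ hker
  have : Module.FinitePresentation P M := Module.FinitePresentation.trans P M S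
  obtain ⟨m, K, eK, hK⟩ := Module.FinitePresentation.exists_fin P M
  obtain ⟨k, g, hg⟩ := Submodule.fg_iff_exists_fin_generating_family.1 hK
  let e : M ≃ₗ[P] Quot g := eK.trans (Submodule.quotEquivOfEq _ _ hg.symm)
  refine ⟨n, m, k, π, g, e.restrictScalars R, hπ, fun p x ↦ map_smul e p x, fun q _ ↦ ?_⟩
  have h1 := flat_iff_killed (R := R) q.primeCompl
    (LocalizedModule.mkLinearMap q.primeCompl M)
  have : IsLocalizedModule (q.comap π).primeCompl
      ((LocalizedModule.mkLinearMap (q.comap π).primeCompl (Quot g)).comp e.toLinearMap) :=
    IsLocalizedModule.of_linearEquiv_right _ _ _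
  have h2 := flat_iff_killed (R := R) (q.comap π).primeCompl
    ((LocalizedModule.mkLinearMap (q.comap π).primeCompl (Quot g)).comp e.toLinearMap)
  have hsmul : ∀ (J : Ideal R) (p : P) (y : M ⊗[R] J), π p • y = p • y := fun J p y ↦ by
    induction y using TensorProduct.induction_on with
    | zero => simp
    | tmul x j => rw [TensorProduct.smul_tmul', TensorProduct.smul_tmul']; rfl
    | add x y hx hy => rw [smul_add, smul_add, hx, hy]
  refine h1.trans (Iff.trans ?_ h2.symm)
  refine forall_congr' fun J ↦ forall_congr' fun y ↦ imp_congr_right fun _ ↦ ?_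
  constructor
  · rintro ⟨s, hs, hsy⟩
    obtain ⟨p, rfl⟩ := hπ s
    exact ⟨p, hs, (hsmul J p y).symm.trans hsy⟩
  · rintro ⟨p, hp, hpy⟩
    exact ⟨π p, hp, (hsmul J p y).trans hpy⟩

/-- The flat locus of a finitely presented module over a finitely presented algebra is open. -/
theorem isOpen_flat_of_finitePresentation [Algebra.FinitePresentation R S]
    [Module.FinitePresentation S M] :
    IsOpen {q : PrimeSpectrum S | Module.Flat R (LocalizedModule q.asIdeal.primeCompl M)} := by
  obtain ⟨n, m, k, π, g, e, -, -, h⟩ := exists_presentation (R := R) (S := S) (M := M)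
  have : {q : PrimeSpectrum S | Module.Flat R (LocalizedModule q.asIdeal.primeCompl M)} =
      PrimeSpectrum.comap π.toRingHom ⁻¹' {q | Module.Flat R (QuotAt g q.asIdeal)} :=
    Set.ext fun q ↦ h q.asIdeal
  rw [this]
  exact (isOpen_flat_quot g).preimage (PrimeSpectrum.continuous_comap _)

end Groth.Agent.H19.FlatLocus
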