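import Groth.Agent.H19.FlatLocus.Model
import Mathlib.AlgebraicGeometry.Morphisms.FinitePresentation
import Mathlib.AlgebraicGeometry.Morphisms.Flat
import Mathlib.AlgebraicGeometry.Pullbacks

/-!
# Models over finitely generated rings of morphisms of affine schemes
-/

set_option autoImplicit false
set_option backward.isDefEq.respectTransparency false
set_option maxHeartbeats 800000
set_option synthInstance.maxHeartbeats 80000

universe u

open MvPolynomial CategoryTheory Limits AlgebraicGeometry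
open Groth.Agent.Lib Groth.Agent.Lib.Flat55.Relations

namespace Groth.Agent.H19.FlatLocus.Model

variable {n l : ℕ}

/-- Relations of the algebra alone present the algebra. -/
theorem exists_quot_equiv {A : Type u} [CommRing A] (f : Fin l → MvPolynomial (Fin n) A) :
    Nonempty (Quot (allRel (m := 1) f Fin.elim0) ≃ₗ[MvPolynomial (Fin n) A]
      MvPolynomial (Fin n) A ⧸ Ideal.span (Set.range f)) := by
  refine ⟨Submodule.Quotient.equiv _ _ (LinearEquiv.funUnique (Fin 1) _ _) ?_⟩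
  rw [rel, Submodule.map_span, ← Set.range_comp]
  refine congrArg (Submodule.span _) (Set.ext fun x ↦ ⟨?_, ?_⟩)
  · rintro ⟨v | ⟨i, j⟩, rfl⟩
    · exact v.elim0
    · exact ⟨i, by simp [allRel, Subsingleton.elim j default]⟩
  · rintro ⟨i, rfl⟩
    exact ⟨Sum.inr (i, default), by simp [allRel]⟩

/-- A finitely presented algebra comes from an algebra of finite type over a finitely generated
ring, flat if the algebra is. -/
theorem exists_algebra_model (R S : Type u) [CommRing R] [CommRing S] [Algebra R S]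
    [Algebra.FinitePresentation R S] :
    ∃ (R₀ : Type u) (_ : CommRing R₀) (_ : Algebra R₀ R) (S₀ : Type u) (_ : CommRing S₀)
      (_ : Algebra R₀ S₀) (_ : Algebra S₀ S) (_ : Algebra R₀ S) (_ : IsScalarTower R₀ R S)
      (_ : IsScalarTower R₀ S₀ S),
      Algebra.FiniteType ℤ R₀ ∧ Algebra.FiniteType R₀ S₀ ∧ Algebra.IsPushout R₀ R S₀ S ∧
        (Module.Flat R S → Module.Flat R₀ S₀) := by
  classical
  obtain ⟨n, π, hπ, hker⟩ := Algebra.FinitePresentation.out (R := R) (A := S)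
  obtain ⟨l, f, hf⟩ := Submodule.fg_iff_exists_fin_generating_family.1 hker
  obtain ⟨s, f₀, g₀, hf₀, -, hfl⟩ := exists_fg_level (m := 1) f Fin.elim0
  let R₀ := Algebra.adjoin ℤ (s : Set R)
  let P₀ := MvPolynomial (Fin n) R₀
  let I₀ : Ideal P₀ := Ideal.span (Set.range f₀)
  let πR : P₀ →+* S := π.toRingHom.comp (MvPolynomial.map R₀.val.toRingHom)
  have hI : ∀ a ∈ I₀, πR a = 0 := fun a ha ↦ by
    refine (Ideal.span_le (I := RingHom.ker πR)).2 ?_ ha
    rintro _ ⟨i, rfl⟩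
    show π (MvPolynomial.map R₀.val.toRingHom (f₀ i)) = 0
    rw [hf₀]
    exact (hf ▸ Submodule.subset_span (Set.mem_range_self i) : f i ∈ RingHom.ker π.toRingHom)
  let : Algebra (P₀ ⧸ I₀) S := (Ideal.Quotient.lift I₀ πR hI).toAlgebra
  have : IsScalarTower R₀ (P₀ ⧸ I₀) S := tower_of_lift I₀ πR hI fun r ↦ by
    show π (MvPolynomial.map R₀.val.toRingHom (C r)) = _
    rw [map_C, ← MvPolynomial.algebraMap_eq, AlgHom.commutes]
    exact (IsScalarTower.algebraMap_apply R₀ R S r).symm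
  refine ⟨R₀, inferInstance, inferInstance, P₀ ⧸ I₀, inferInstance, inferInstance, inferInstance,
    inferInstance, inferInstance, inferInstance,
    R₀.fg_iff_finiteType.1 (Subalgebra.fg_adjoin_finset s),
    Algebra.FiniteType.of_surjective (Ideal.Quotient.mkₐ R₀ I₀) Ideal.Quotient.mk_surjective,
    isPushout_quotient π hπ f hf.symm f₀ hf₀ (Ideal.Quotient.mkₐ R₀ I₀)
      Ideal.Quotient.mk_surjective
      (fun i ↦ Ideal.Quotient.eq_zero_iff_mem.2 (Ideal.subset_span (Set.mem_range_self i)))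
      (fun _ ↦ rfl), fun hflat ↦ ?_⟩
  obtain rfl : g₀ = Fin.elim0 := funext fun i ↦ i.elim0
  obtain ⟨e⟩ := exists_quot_equiv f
  obtain ⟨e₀⟩ := exists_quot_equiv f₀
  have e' : (MvPolynomial (Fin n) R ⧸ Ideal.span (Set.range f)) ≃ₐ[R] S :=
    (Ideal.quotientEquivAlgOfEq R hf).trans (Ideal.quotientKerAlgEquivOfSurjective hπ)
  have : Module.Flat R (MvPolynomial (Fin n) R ⧸ Ideal.span (Set.range f)) :=
    Module.Flat.of_linearEquiv e'.toLinearEquiv
  have := hfl (Module.Flat.of_linearEquiv (e.restrictScalars R))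
  exact Module.Flat.of_linearEquiv (e₀.restrictScalars R₀).symm

/-- A morphism of affine schemes obtained from a pushout of rings. -/
theorem isPullback_of_isPushout {X S : Scheme.{u}} (f : X ⟶ S) [IsAffine X] [IsAffine S]
    (R₀ S₀ : Type u) [CommRing R₀] [CommRing S₀] [Algebra R₀ Γ(S, ⊤)] [Algebra R₀ S₀]
    [Algebra S₀ Γ(X, ⊤)] [Algebra R₀ Γ(X, ⊤)] :
    letI := f.appTop.hom.toAlgebra
    ∀ [IsScalarTower R₀ Γ(S, ⊤) Γ(X, ⊤)] [IsScalarTower R₀ S₀ Γ(X, ⊤)],
      Algebra.IsPushout R₀ Γ(S, ⊤) S₀ Γ(X, ⊤) →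
        IsPullback (X.isoSpec.hom ≫ Spec.map (CommRingCat.ofHom (algebraMap S₀ Γ(X, ⊤)))) f
          (Spec.map (CommRingCat.ofHom (algebraMap R₀ S₀)))
          (S.isoSpec.hom ≫ Spec.map (CommRingCat.ofHom (algebraMap R₀ Γ(S, ⊤)))) := by
  let := f.appTop.hom.toAlgebra
  intro _ _ h
  refine (isPullback_SpecMap_of_isPushout _ _ _ _
    (CommRingCat.isPushout_of_isPushout R₀ Γ(S, ⊤) S₀ Γ(X, ⊤))).flip.of_iso X.isoSpec.symm
      (Iso.refl _) S.isoSpec.symm (Iso.refl _) ?_ ?_ ?_ ?_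
  · simp
  · exact Scheme.isoSpec_inv_naturality f
  · simp
  · simp

theorem finiteType_int_Spec (R₀ : Type u) [CommRing R₀] [Algebra.FiniteType ℤ R₀] :
    Algebra.FiniteType ℤ Γ(Spec (CommRingCat.of R₀), ⊤) :=
  Algebra.FiniteType.of_surjective
    ((Scheme.ΓSpecIso (CommRingCat.of R₀)).commRingCatIsoToRingEquiv.symm.toRingHom.toIntAlgHom)
    (Scheme.ΓSpecIso (CommRingCat.of R₀)).commRingCatIsoToRingEquiv.symm.surjective

theorem locallyOfFiniteType_Spec (R₀ S₀ : Type u) [CommRing R₀] [CommRing S₀] [Algebra R₀ S₀]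
    [Algebra.FiniteType R₀ S₀] :
    LocallyOfFiniteType (Spec.map (CommRingCat.ofHom (algebraMap R₀ S₀))) :=
  (HasRingHomProperty.Spec_iff (P := @LocallyOfFiniteType)).2
    (RingHom.finiteType_algebraMap.2 ‹_›)

theorem flat_Spec (R₀ S₀ : Type u) [CommRing R₀] [CommRing S₀] [Algebra R₀ S₀]
    [Module.Flat R₀ S₀] : Flat (Spec.map (CommRingCat.ofHom (algebraMap R₀ S₀))) :=
  (HasRingHomProperty.Spec_iff (P := @Flat)).2 (RingHom.flat_algebraMap_iff.2 ‹_›)

/-- Noetherian approximation of a finitely presented morphism of affine schemes. -/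
theorem exists_scheme_model {X S : Scheme.{u}} (f : X ⟶ S) [IsAffine X] [IsAffine S]
    [LocallyOfFinitePresentation f] :
    ∃ (X₀ S₀ : Scheme.{u}) (f₀ : X₀ ⟶ S₀) (g : S ⟶ S₀) (g' : X ⟶ X₀), IsAffine X₀ ∧ IsAffine S₀ ∧
      IsPullback g' f f₀ g ∧ Algebra.FiniteType ℤ Γ(S₀, ⊤) ∧ LocallyOfFiniteType f₀ ∧
        (Flat f → Flat f₀) := by
  algebraize [f.appTop.hom]
  have : Algebra.FinitePresentation Γ(S, ⊤) Γ(X, ⊤) :=
    (HasRingHomProperty.iff_of_isAffine (P := @LocallyOfFinitePresentation)).1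
      (inferInstance : LocallyOfFinitePresentation f)
  obtain ⟨R₀, _, _, S₀, _, _, _, _, _, _, h1, h2, h3, h4⟩ :=
    exists_algebra_model Γ(S, ⊤) Γ(X, ⊤)
  refine ⟨_, _, _, _, _, inferInstance, inferInstance, isPullback_of_isPushout f R₀ S₀ h3,
    finiteType_int_Spec R₀, locallyOfFiniteType_Spec R₀ S₀, fun hf ↦ ?_⟩
  have : Module.Flat Γ(S, ⊤) Γ(X, ⊤) := (HasRingHomProperty.iff_of_isAffine (P := @Flat)).1 hf
  have := h4 this
  exact flat_Spec R₀ S₀

end Groth.Agent.H19.FlatLocus.Model
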