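import Groth.Agent.H19.FlatLocus.Model2
import Groth.Agent.H19.FlatLocus.Scheme
import Groth.Agent.H78.Formal.Algebraize
import Groth.Agent.H30.ModThick
import Mathlib.RingTheory.LocalProperties.FinitePresentation

/-!
# Models over finitely generated rings of modules on affine schemes
-/

set_option autoImplicit false
set_option backward.isDefEq.respectTransparency false
set_option linter.style.haveILetI false
set_option maxHeartbeats 800000
set_option synthInstance.maxHeartbeats 80000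

universe u

open CategoryTheory Limits AlgebraicGeometry Opposite TopologicalSpace
open Groth.Agent.Lib Groth.Agent.Lib.QCoh.Localizing Groth.Agent.Lib.QCoh.Tilde

namespace Groth.Agent.H19.FlatLocus.ModelMod

variable {X : Scheme.{u}}

/-- Global sections of a finitely presented module on an affine scheme. -/
theorem finitePresentation_top_of_isFP [IsAffine X] (M : X.Modules) [M.IsQuasicoherent]
    (hM : CohB1.IsFP M) : Module.FinitePresentation Γ(X, ⊤) Γ(M, ⊤) := by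
  haveI : SheafOfModules.IsFinitePresentation (R := X.ringCatSheaf) M := hM
  let s : Set Γ(X, ⊤) := {f | Module.FinitePresentation Γ(X, X.basicOpen f) Γ(M, X.basicOpen f)}
  have hs : Ideal.span s = ⊤ := by
    refine (IsAffineOpen.iSup_basicOpen_eq_self_iff (isAffineOpen_top X) (s := s)).mp
      (top_unique fun x _ ↦ ?_)
    obtain ⟨U, hU, hxU, -, hfp⟩ := Flat55.QCohFP.exists_affine_le M x ⊤ trivial
    obtain ⟨f, hfU, hxf⟩ := (isAffineOpen_top X).exists_basicOpen_le (⟨x, hxU⟩ : U) trivial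
    have h := Flat55.QCohFP.finitePresentation_basicOpen M hU
      (X.presheaf.map (homOfLE le_top).op f)
    have e : X.basicOpen (X.presheaf.map (homOfLE (le_top : U ≤ ⊤)).op f) = X.basicOpen f := by
      rw [Scheme.basicOpen_res]
      exact inf_eq_right.2 hfU
    rw [e] at h
    exact Opens.mem_iSup.2 ⟨⟨f, h⟩, hxf⟩
  let : ∀ g : s, Algebra Γ(X, ⊤) Γ(X, X.basicOpen g.1) :=
    fun g ↦ (resR (X.basicOpen_le g.1)).toAlgebra
  let : ∀ g : s, Module Γ(X, ⊤) Γ(M, X.basicOpen g.1) :=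
    fun g ↦ Module.compHom _ (resR (X.basicOpen_le g.1))
  have : ∀ g : s, IsScalarTower Γ(X, ⊤) Γ(X, X.basicOpen g.1) Γ(M, X.basicOpen g.1) :=
    fun g ↦ IsScalarTower.of_algebraMap_smul fun _ _ ↦ rfl
  have : ∀ g : s, IsLocalization.Away g.1 Γ(X, X.basicOpen g.1) :=
    fun g ↦ (isAffineOpen_top X).isLocalization_basicOpen g.1
  let l : ∀ g : s, Γ(M, ⊤) →ₗ[Γ(X, ⊤)] Γ(M, X.basicOpen g.1) := fun g ↦
    { toFun := res M (X.basicOpen_le g.1)
      map_add' := map_add _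
      map_smul' := fun r m ↦ res_smul (X.basicOpen_le g.1) r m }
  have : ∀ g : s, IsLocalizedModule (Submonoid.powers g.1) (l g) := fun g ↦ by
    refine ⟨fun t ↦ ?_, fun y ↦ ?_, fun {a b} h ↦ ?_⟩
    · rw [Module.End.isUnit_iff]
      exact (IsLocalization.map_units Γ(X, X.basicOpen g.1) t).smul_bijective
    · obtain ⟨n, t, ht⟩ := (localizes_of_isAffineOpen M (isAffineOpen_top X) g.1).ext' y
      refine ⟨⟨t, ⟨g.1 ^ n, n, rfl⟩⟩, ?_⟩
      refine Eq.trans ?_ ht.symm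
      change resR (X.basicOpen_le g.1) (g.1 ^ n) • y = _
      rw [map_pow]
    · obtain ⟨n, hn⟩ := (localizes_of_isAffineOpen M (isAffineOpen_top X) g.1).sep.exists_pow_smul_eq h
      exact ⟨⟨g.1 ^ n, n, rfl⟩, hn⟩
  exact Module.FinitePresentation.of_localizationSpan' s hs l fun g ↦ g.2

/-- Global sections of a module as sections on the spectrum. -/
theorem exists_specΓ_equiv [IsAffine X] (F : X.Modules) :
    Nonempty ((specΓ Γ(X, ⊤)).obj (F.restrict (isAffineOpen_top X).fromSpec) ≅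
      ModuleCat.of Γ(X, ⊤) Γ(F, ⊤)) := by
  have hX := isAffineOpen_top X
  have e : hX.fromSpec ''ᵁ ⊤ = ⊤ := by
    rw [Scheme.Hom.image_top_eq_opensRange, hX.opensRange_fromSpec]
  refine ⟨LinearEquiv.toModuleIso
    (X₁ := (specΓ Γ(X, ⊤)).obj (F.restrict (isAffineOpen_top X).fromSpec))
    { toFun := fun z ↦ F.presheaf.map (eqToHom e.symm).op (z : Γ(F, hX.fromSpec ''ᵁ ⊤))
      invFun := fun z ↦ (F.presheaf.map (eqToHom e).op z :)
      left_inv := fun z ↦ ?_
      right_inv := fun z ↦ ?_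
      map_add' := fun a b ↦ map_add (F.presheaf.map (eqToHom e.symm).op).hom a b
      map_smul' := fun r z ↦ ?_ }⟩
  · refine Eq.trans ?_ (congrArg (fun c : Γ(X, ⊤) ↦
      c • F.presheaf.map (eqToHom e.symm).op (z : Γ(F, hX.fromSpec ''ᵁ ⊤)))
        (H30.ModThick.fromSpec_smul_eq hX e r))
    exact F.map_smul _ _ _
  · simp [← AddCommGrpCat.comp_apply, ← Functor.map_comp]
  · simp [← AddCommGrpCat.comp_apply, ← Functor.map_comp]

/-- A quasi-coherent module on an affine scheme is pulled back from its sections. -/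
theorem exists_pullback_tilde_iso [IsAffine X] (F : X.Modules) [F.IsQuasicoherent] :
    Nonempty ((Scheme.Modules.pullback X.isoSpec.hom).obj
      ((tilde.functor Γ(X, ⊤)).obj (ModuleCat.of Γ(X, ⊤) Γ(F, ⊤))) ≅ F) := by
  have hX := isAffineOpen_top X
  have : (F.restrict (isAffineOpen_top X).fromSpec).IsQuasicoherent :=
    have := QCoh.Pullback.isQCoh_pullback hX.fromSpec F
    (SheafOfModules.isQuasicoherent (R := (Spec Γ(X, ⊤)).ringCatSheaf)).prop_of_iso
      ((Scheme.Modules.restrictFunctorIsoPullback hX.fromSpec).app F).symm ‹_›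
  obtain ⟨e⟩ := exists_specΓ_equiv F
  refine ⟨(Scheme.Modules.pullback X.isoSpec.hom).mapIso ((tilde.functor _).mapIso e.symm ≪≫
    isoTildeSections (F.restrict (isAffineOpen_top X).fromSpec) ≪≫
    (Scheme.Modules.restrictFunctorIsoPullback (isAffineOpen_top X).fromSpec).app F) ≪≫
    (Scheme.Modules.pullbackComp X.isoSpec.hom (isAffineOpen_top X).fromSpec).app F ≪≫
    (Scheme.Modules.pullbackCongr ?_).app F ≪≫ (Scheme.Modules.pullbackId X).app F⟩
  rw [IsAffineOpen.fromSpec_top, Iso.hom_inv_id]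

/-- The inverse image of a module with the base change as its sections. -/
theorem exists_pullback_iso [IsAffine X] (F : X.Modules) [F.IsQuasicoherent] (S₀ M₀ : Type u)
    [CommRing S₀] [AddCommGroup M₀] [Module S₀ M₀] [inst : Algebra S₀ Γ(X, ⊤)] [Module S₀ Γ(F, ⊤)]
    [IsScalarTower S₀ Γ(X, ⊤) Γ(F, ⊤)] (φ : M₀ →ₗ[S₀] Γ(F, ⊤)) (hφ : IsBaseChange Γ(X, ⊤) φ) :
    Nonempty ((Scheme.Modules.pullback
      (X.isoSpec.hom ≫ Spec.map (CommRingCat.ofHom (algebraMap S₀ Γ(X, ⊤))))).obj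
        ((tilde.functor (CommRingCat.of S₀)).obj (ModuleCat.of S₀ M₀)) ≅ F) := by
  have key : ∀ ψ : S₀ →+* Γ(X, ⊤), algebraMap S₀ Γ(X, ⊤) = ψ →
      Nonempty ((ModuleCat.extendScalars ψ).obj (ModuleCat.of S₀ M₀) ≅
        ModuleCat.of Γ(X, ⊤) Γ(F, ⊤)) := by
    intro ψ hψ
    obtain rfl : inst = ψ.toAlgebra := Algebra.algebra_ext _ _ fun r ↦ congr($hψ r)
    letI : Algebra S₀ Γ(X, ⊤) := ψ.toAlgebra
    exact ⟨LinearEquiv.toModuleIso hφ.equiv⟩
  obtain ⟨e⟩ := key (algebraMap S₀ Γ(X, ⊤)) rfl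
  obtain ⟨eF⟩ := exists_pullback_tilde_iso F
  exact ⟨((Scheme.Modules.pullbackComp X.isoSpec.hom
      (Spec.map (CommRingCat.ofHom (algebraMap S₀ Γ(X, ⊤))))).app _).symm ≪≫
    (Scheme.Modules.pullback X.isoSpec.hom).mapIso
      ((QCoh.Pullback.pullbackTildeIso (CommRingCat.ofHom (algebraMap S₀ Γ(X, ⊤)))).app _ ≪≫
        (tilde.functor Γ(X, ⊤)).mapIso e) ≪≫ eF⟩

/-- Sections of a flat module on an affine scheme over an affine base are flat. -/
theorem flat_top_of_isFlatOver {S : Scheme.{u}} (f : X ⟶ S) [IsAffine X] [IsAffine S]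
    (F : X.Modules) [F.IsQuasicoherent] (h : FlatMod.IsFlatOver f F) :
    letI := Module.compHom Γ(F, ⊤) f.appTop.hom
    Module.Flat Γ(S, ⊤) Γ(F, ⊤) := by
  letI := Module.compHom Γ(F, ⊤) f.appTop.hom
  have key : ∀ ψ : Γ(S, ⊤) ⟶ Γ(X, ⊤), f.appLE ⊤ ⊤ (le_top.trans_eq rfl) = ψ →
      letI := Module.compHom Γ(F, ⊤) ψ.hom
      Module.Flat Γ(S, ⊤) Γ(F, ⊤) := by
    rintro _ rfl
    let : Algebra Γ(S, ⊤) Γ(X, ⊤) := (f.appLE ⊤ ⊤ (le_top.trans_eq rfl)).hom.toAlgebra
    let : Module Γ(S, ⊤) Γ(F, ⊤) := Module.compHom _ (f.appLE ⊤ ⊤ (le_top.trans_eq rfl)).hom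
    have : IsScalarTower Γ(S, ⊤) Γ(X, ⊤) Γ(F, ⊤) :=
      IsScalarTower.of_algebraMap_smul fun _ _ ↦ rfl
    refine Model.flat_of_forall_prime (S := Γ(X, ⊤)) fun q _ ↦ ?_
    have hX := isAffineOpen_top X
    let x : X := hX.fromSpec ⟨q, ‹_›⟩
    have hx := (Scheme.isFlatOverAt_iff f F (isAffineOpen_top S) hX (le_top.trans_eq rfl) (x := x)
      trivial).1 (h x)
    have e : hX.primeIdealOf ⟨x, trivial⟩ = ⟨q, ‹_›⟩ :=
      hX.fromSpec.isOpenEmbedding.injective (hX.fromSpec_primeIdealOf ⟨x, trivial⟩)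
    rw [e] at hx
    exact hx
  exact key f.appTop (f.appLE_eq_app (U := ⊤))

/-- The module attached to a flat module is flat over the base. -/
theorem isFlatOver_tilde (R₀ S₀ M₀ : Type u) [CommRing R₀] [CommRing S₀] [Algebra R₀ S₀]
    [AddCommGroup M₀] [Module S₀ M₀] [Module R₀ M₀] [IsScalarTower R₀ S₀ M₀] [Module.Flat R₀ M₀] :
    FlatMod.IsFlatOver (Spec.map (CommRingCat.ofHom (algebraMap R₀ S₀)))
      ((tilde.functor (CommRingCat.of S₀)).obj (ModuleCat.of S₀ M₀)) := by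
  let φ := CommRingCat.ofHom (algebraMap R₀ S₀)
  let f := Spec.map φ
  let T := (tilde.functor (CommRingCat.of S₀)).obj (ModuleCat.of S₀ M₀)
  have : T.IsQuasicoherent := isQCoh_tildeFunctor_obj _
  intro x
  refine (Scheme.isFlatOverAt_iff f T (isAffineOpen_top _) (isAffineOpen_top _)
    (le_top.trans_eq rfl) (x := x) trivial).2 ?_
  let A := Γ(Spec (CommRingCat.of R₀), ⊤)
  let : Module A Γ(T, ⊤) := Module.compHom _ (f.appLE ⊤ ⊤ (le_top.trans_eq rfl)).hom
  let : Algebra R₀ A := (Scheme.ΓSpecIso (CommRingCat.of R₀)).inv.hom.toAlgebra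
  let : Algebra A Γ(Spec (CommRingCat.of S₀), ⊤) :=
    (f.appLE ⊤ ⊤ (le_top.trans_eq rfl)).hom.toAlgebra
  have : IsScalarTower A Γ(Spec (CommRingCat.of S₀), ⊤) Γ(T, ⊤) :=
    IsScalarTower.of_algebraMap_smul fun _ _ ↦ rfl
  let : Module R₀ Γ(T, ⊤) := Module.compHom _ (algebraMap R₀ A)
  have : IsScalarTower R₀ A Γ(T, ⊤) := IsScalarTower.of_algebraMap_smul fun _ _ ↦ rfl
  have hb : Function.Bijective (algebraMap R₀ A) :=
    (Scheme.ΓSpecIso (CommRingCat.of R₀)).commRingCatIsoToRingEquiv.symm.bijective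
  have : IsLocalization (⊥ : Submonoid R₀) R₀ :=
    IsLocalization.self fun x hx ↦ by rw [Submonoid.mem_bot.1 hx]; exact isUnit_one
  have : IsLocalization (⊥ : Submonoid R₀) A :=
    IsLocalization.isLocalization_of_algEquiv ⊥ (AlgEquiv.ofBijective (Algebra.ofId R₀ A) hb)
  let e := ((sectionsTildeIso (R := CommRingCat.of S₀)).app (ModuleCat.of S₀ M₀)).toLinearEquiv
  let L : M₀ ≃ₗ[R₀] Γ(T, ⊤) :=
    { e.toAddEquiv with
      map_smul' := fun r m ↦ by
        show e (r • m) = _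
        rw [← algebraMap_smul S₀ r m, e.map_smul]
        refine congrArg (fun c : Γ(Spec (CommRingCat.of S₀), ⊤) ↦ c • (show Γ(T, ⊤) from e m))
          (show (Scheme.ΓSpecIso (CommRingCat.of S₀)).inv (algebraMap R₀ S₀ r) =
            f.appLE ⊤ ⊤ (le_top.trans_eq rfl) ((Scheme.ΓSpecIso (CommRingCat.of R₀)).inv r) from ?_)
        rw [show f.appLE ⊤ ⊤ (le_top.trans_eq rfl) = f.appTop from f.appLE_eq_app (U := ⊤)]
        exact congr($(Scheme.ΓSpecIso_inv_naturality φ) r) }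
  have : Module.Flat R₀ Γ(T, ⊤) := Module.Flat.of_linearEquiv L.symm
  have : Module.Flat A Γ(T, ⊤) := (Module.flat_iff_of_isLocalization A (⊥ : Submonoid R₀) _).2 this
  exact Model.flat_localized (R := A)
    ((isAffineOpen_top (Spec (CommRingCat.of S₀))).primeIdealOf ⟨x, trivial⟩).asIdeal.primeCompl
    (LocalizedModule.mkLinearMap _ Γ(T, ⊤))

/-- Noetherian approximation of a module on a finitely presented morphism of affine schemes. -/
theorem exists_scheme_model {S : Scheme.{u}} (f : X ⟶ S) [IsAffine X] [IsAffine S]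
    [LocallyOfFinitePresentation f] (F : X.Modules) [F.IsQuasicoherent] (hF : CohB1.IsFP F) :
    ∃ (X₀ S₀ : Scheme.{u}) (f₀ : X₀ ⟶ S₀) (g : S ⟶ S₀) (g' : X ⟶ X₀), IsAffine X₀ ∧ IsAffine S₀ ∧
      IsPullback g' f f₀ g ∧ Algebra.FiniteType ℤ Γ(S₀, ⊤) ∧ LocallyOfFiniteType f₀ ∧
      ∃ F₀ : X₀.Modules, Coh.IsCoh F₀ ∧ (FlatMod.IsFlatOver f F → FlatMod.IsFlatOver f₀ F₀) ∧
        Nonempty ((Scheme.Modules.pullback g').obj F₀ ≅ F) := by
  algebraize [f.appTop.hom]
  have : Algebra.FinitePresentation Γ(S, ⊤) Γ(X, ⊤) :=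
    (HasRingHomProperty.iff_of_isAffine (P := @LocallyOfFinitePresentation)).1
      (inferInstance : LocallyOfFinitePresentation f)
  letI := Module.compHom Γ(F, ⊤) f.appTop.hom
  haveI : IsScalarTower Γ(S, ⊤) Γ(X, ⊤) Γ(F, ⊤) := IsScalarTower.of_algebraMap_smul fun _ _ ↦ rfl
  have := finitePresentation_top_of_isFP F hF
  obtain ⟨R₀, _, _, S₀, _, _, _, _, _, _, M₀, _, _, _, _, _, _, φ, h1, h2, h3, h4, h5, h6⟩ :=
    Model.exists_model Γ(S, ⊤) Γ(X, ⊤) Γ(F, ⊤)
  refine ⟨_, _, _, _, _, inferInstance, inferInstance, Model.isPullback_of_isPushout f R₀ S₀ h4,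
    Model.finiteType_int_Spec R₀, Model.locallyOfFiniteType_Spec R₀ S₀,
    (tilde.functor (CommRingCat.of S₀)).obj (ModuleCat.of S₀ M₀),
    H78.Formal.Algebraize.isCoh_tilde (ModuleCat.of S₀ M₀), fun hfl ↦ ?_,
    exists_pullback_iso F S₀ M₀ φ h5⟩
  have := h6 (flat_top_of_isFlatOver f F hfl)
  exact isFlatOver_tilde R₀ S₀ M₀

end Groth.Agent.H19.FlatLocus.ModelMod
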