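import Groth.Agent.H19.FlatLocus.Basic
import Groth.Agent.Lib.LocalFlat.Criterion
import Groth.Agent.H47.GenericFreeDomain
import Mathlib.RingTheory.Ideal.MinimalPrime.Noetherian
import Mathlib.RingTheory.Spectrum.Prime.Topology
import Mathlib.LinearAlgebra.TensorProduct.Quotient

/-!
# Openness of the flat locus over a Noetherian base
-/

set_option autoImplicit false
set_option backward.isDefEq.respectTransparency false

universe u

open TensorProduct

namespace Groth.Agent.H19.FlatLocus

/-- A topological criterion of openness in the spectrum of a Noetherian ring. -/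
theorem isOpen_of_generalization {S : Type*} [CommRing S] [IsNoetherianRing S]
    (U : Set (PrimeSpectrum S))
    (hgen : ∀ p q : PrimeSpectrum S, p.asIdeal ≤ q.asIdeal → q ∈ U → p ∈ U)
    (hloc : ∀ p ∈ U, ∃ a ∉ p.asIdeal,
      ∀ q : PrimeSpectrum S, p.asIdeal ≤ q.asIdeal → a ∉ q.asIdeal → q ∈ U) :
    IsOpen U := by
  classical
  rw [← isClosed_compl_iff, ← closure_subset_iff_isClosed]
  intro q hq
  rw [← PrimeSpectrum.zeroLocus_vanishingIdeal_eq_closure] at hq
  set I := PrimeSpectrum.vanishingIdeal Uᶜ with hI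
  obtain ⟨p, hp, hpq⟩ := Ideal.exists_minimalPrimes_le (I := I) (J := q.asIdeal) hq
  let p' : PrimeSpectrum S := ⟨p, hp.1.1⟩
  suffices hp' : p' ∉ U from fun hqU => hp' (hgen p' q hpq hqU)
  intro hpU
  obtain ⟨a, ha, hloc⟩ := hloc p' hpU
  have hfin : Set.Finite I.minimalPrimes := Ideal.finite_minimalPrimes_of_isNoetherianRing S I
  have hs : ¬ (hfin.toFinset.erase p).inf id ≤ p := fun hle ↦ by
    obtain ⟨r, hr, hrp⟩ := (hp.1.1.inf_le').1 hle
    rw [Finset.mem_erase, Set.Finite.mem_toFinset] at hr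
    exact hr.1 (le_antisymm hrp (hp.2 hr.2.1 hrp))
  obtain ⟨c, hc, hcp⟩ := SetLike.not_le_iff_exists.1 hs
  have hac : a * c ∈ I := by
    rw [hI, PrimeSpectrum.mem_vanishingIdeal]
    intro r hr
    have hIr : I ≤ r.asIdeal := fun x hx ↦ (PrimeSpectrum.mem_vanishingIdeal _ _).1 hx r hr
    obtain ⟨p₁, hp₁, hp₁r⟩ := Ideal.exists_minimalPrimes_le hIr
    rcases eq_or_ne p₁ p with rfl | hne
    · exact Ideal.mul_mem_right _ _ (by_contra fun har ↦ hr (hloc r hp₁r har))
    · refine Ideal.mul_mem_left _ _ (hp₁r ?_)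
      exact (Finset.inf_le (f := id)
        (Finset.mem_erase.2 ⟨hne, hfin.mem_toFinset.2 hp₁⟩) : _ ≤ p₁) hc
  rcases hp.1.1.mem_or_mem (hp.1.2 hac) with h | h
  · exact ha h
  · exact hcp h

section Transport

variable {R : Type u} [CommRing R] (A : Type u) [CommRing A] [Algebra R A]
  (M : Type u) [AddCommGroup M] [Module R M]

/-- `M ⊗_R X ≅ (A ⊗_R M) ⊗_A X`. -/
noncomputable def transfer (X : Type u) [AddCommGroup X] [Module R X] [Module A X]
    [IsScalarTower R A X] : M ⊗[R] X ≃ₗ[R] (A ⊗[R] M) ⊗[A] X :=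
  (TensorProduct.comm R M X).trans
    (((AlgebraTensorModule.cancelBaseChange R A A X M).symm.restrictScalars R).trans
      ((TensorProduct.comm A X (A ⊗[R] M)).restrictScalars R))

variable {X Y : Type u} [AddCommGroup X] [Module R X] [Module A X] [IsScalarTower R A X]
  [AddCommGroup Y] [Module R Y] [Module A Y] [IsScalarTower R A Y]

theorem transfer_natural (f : X →ₗ[A] Y) (z : M ⊗[R] X) :
    f.lTensor (A ⊗[R] M) (transfer A M X z) =
      transfer A M Y ((f.restrictScalars R).lTensor M z) := by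
  induction z using TensorProduct.induction_on with
  | zero => simp
  | tmul m x => simp [transfer]
  | add x y hx hy => simp only [map_add, hx, hy]

end Transport

variable {R S M : Type u} [CommRing R] [CommRing S] [Algebra R S] [AddCommGroup M] [Module R M]
  [Module S M] [IsScalarTower R S M]

/-- Generic flatness, elementwise. -/
theorem exists_notMem_killed [Algebra.FiniteType R S] [Module.Finite S M] (P : Ideal R)
    [P.IsPrime] : ∃ f₀ ∉ P, ∀ (J : Ideal (R ⧸ P)) (y : M ⊗[R] J),
      (J.subtype.restrictScalars R).lTensor M y = 0 →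
        ∃ k : ℕ, (algebraMap R S f₀) ^ k • y = 0 := by
  let A := R ⧸ P
  let I : Ideal S := P.map (algebraMap R S)
  let B := S ⧸ I
  let : Algebra A B := (Ideal.quotientMap I (algebraMap R S) Ideal.le_comap_map).toAlgebra
  have : IsScalarTower R A B := .of_algebraMap_eq fun _ ↦ rfl
  have : Algebra.FiniteType A B := Algebra.FiniteType.of_restrictScalars_finiteType R A B
  let N := B ⊗[S] M
  have : IsScalarTower R A N := ⟨fun r a n ↦ by
    simp [smul_assoc]⟩
  have hGF : Groth.Agent.H47.GenericFree.GF A N :=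
    Groth.Agent.H47.GenericFreeDomain.gf_of_finiteType B N
  have hPI : (P • ⊤ : Submodule R M) = (I • ⊤ : Submodule S M).restrictScalars R :=
    (Submodule.restrictScalars_map_smul_eq P ⊤).symm
  let e₀ : A ⊗[R] M ≃ₗ[R] N :=
    quotTensorEquivQuotSMul M P ≪≫ₗ Submodule.quotEquivOfEq _ _ hPI ≪≫ₗ
      Submodule.Quotient.restrictScalarsEquiv R (I • ⊤ : Submodule S M) ≪≫ₗ
      (quotTensorEquivQuotSMul M I).symm.restrictScalars R
  let e : A ⊗[R] M ≃ₗ[A] N := e₀.extendScalarsOfSurjective Ideal.Quotient.mk_surjective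
  obtain ⟨f, hf, hfree⟩ := Groth.Agent.H47.GenericFree.GF.of_equiv e.symm hGF
  obtain ⟨f₀, rfl⟩ := Ideal.Quotient.mk_surjective f
  refine ⟨f₀, fun h ↦ hf (Ideal.Quotient.eq_zero_iff_mem.2 h), fun J y hy ↦ ?_⟩
  let Fm := Localization.Away (Ideal.Quotient.mk P f₀) ⊗[A] (A ⊗[R] M)
  have : Module.Flat A (Localization.Away (Ideal.Quotient.mk P f₀)) :=
    IsLocalization.flat _ (Submonoid.powers (Ideal.Quotient.mk P f₀))
  have : Module.Flat A Fm := Module.Flat.trans A (Localization.Away (Ideal.Quotient.mk P f₀)) _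
  have h0 : J.subtype.lTensor (A ⊗[R] M) (transfer A M J y) = 0 := by
    rw [transfer_natural]
    rw [hy, map_zero]
  obtain ⟨s, ⟨k, rfl⟩, hs⟩ := killed_of_lTensor_injective
    (Submonoid.powers (Ideal.Quotient.mk P f₀))
    (TensorProduct.mk A (Localization.Away (Ideal.Quotient.mk P f₀)) (A ⊗[R] M) 1) J.subtype
    (Module.Flat.lTensor_preserves_injective_linearMap _ J.injective_subtype)
    (transfer A M J y) h0
  refine ⟨k, (transfer A M J).injective ?_⟩
  rw [← map_pow, algebraMap_smul, map_smul, map_zero, ← hs]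
  show _ = (Ideal.Quotient.mk P f₀) ^ k • _
  rw [← map_pow, ← Ideal.Quotient.algebraMap_eq, algebraMap_smul]

/-- Openness of the flat locus over a Noetherian ring. -/
theorem isOpen_flat_of_noetherian [IsNoetherianRing R] [Algebra.FiniteType R S] [Module.Finite S M] :
    IsOpen {q : PrimeSpectrum S | Module.Flat R (LocalizedModule q.asIdeal.primeCompl M)} := by
  classical
  have : IsNoetherianRing S := Algebra.FiniteType.isNoetherianRing R S
  have key := fun q : PrimeSpectrum S ↦
    flat_iff_killed (R := R) q.asIdeal.primeCompl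
      (LocalizedModule.mkLinearMap q.asIdeal.primeCompl M)
  refine isOpen_of_generalization _ (fun p q hpq hq ↦ (key p).2 fun J y hy ↦ ?_) fun p hp ↦ ?_
  · obtain ⟨s, hs, hsy⟩ := (key q).1 hq J y hy
    exact ⟨s, fun h ↦ hs (hpq h), hsy⟩
  let P : Ideal R := p.asIdeal.comap (algebraMap R S)
  obtain ⟨f₀, hf₀, hgen⟩ := exists_notMem_killed (S := S) (M := M) P
  have : Module.Finite R P := Module.Finite.iff_fg.2 (IsNoetherian.noetherian P)
  have : Module.Finite S (M ⊗[R] P) :=
    Module.Finite.equiv (AlgebraTensorModule.cancelBaseChange R S S M P)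
  let K : Submodule S (M ⊗[R] P) :=
    LinearMap.ker (AlgebraTensorModule.lTensor S M P.subtype)
  obtain ⟨G, hG⟩ : K.FG := IsNoetherian.noetherian K
  have hGk : ∀ z : G, ∃ s ∈ p.asIdeal.primeCompl, s • (z : M ⊗[R] P) = 0 := fun z ↦
    (key p).1 hp P z (show (z : M ⊗[R] P) ∈ K from hG ▸ Submodule.subset_span z.2)
  choose s hs hsz using hGk
  refine ⟨(∏ z, s z) * algebraMap R S f₀,
    fun h ↦ (p.2.mem_or_mem h).elim (fun h ↦ ?_) hf₀, fun q hpq hq ↦ ?_⟩
  · obtain ⟨z, -, hz⟩ := (Ideal.IsPrime.prod_mem_iff (hp := p.2)).1 h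
    exact hs z hz
  have hq₁ : ∏ z, s z ∉ q.asIdeal := fun h ↦ hq (Ideal.mul_mem_right _ _ h)
  have hq₂ : algebraMap R S f₀ ∉ q.asIdeal := fun h ↦ hq (Ideal.mul_mem_left _ _ h)
  let Mq := LocalizedModule q.asIdeal.primeCompl M
  let l := LocalizedModule.mkLinearMap q.asIdeal.primeCompl M
  have hinj : Function.Injective (P.subtype.lTensor Mq) := by
    refine lTensor_injective_of_killed q.asIdeal.primeCompl l P.subtype fun y hy ↦
      ⟨∏ z, s z, hq₁, ?_⟩
    have hyK : y ∈ Submodule.span S (G : Set (M ⊗[R] P)) := hG.symm ▸ hy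
    clear hy
    induction hyK using Submodule.span_induction with
    | mem x hx =>
      rw [← Finset.prod_erase_mul _ _ (Finset.mem_univ (⟨x, hx⟩ : G)), mul_smul, hsz ⟨x, hx⟩,
        smul_zero]
    | zero => exact smul_zero _
    | add x y _ _ h₁ h₂ => rw [smul_add, h₁, h₂, add_zero]
    | smul c x _ h₁ => rw [smul_comm, h₁, smul_zero]
  have : Module.Flat (R ⧸ P) ((R ⧸ P) ⊗[R] Mq) := by
    rw [Module.Flat.iff_lTensor_injective']
    intro J
    have h : Function.Injective ((J.subtype.restrictScalars R).lTensor Mq) :=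
      lTensor_injective_of_killed q.asIdeal.primeCompl l _ fun y hy ↦ by
        obtain ⟨k, hk⟩ := hgen J y hy
        exact ⟨algebraMap R S f₀ ^ k, fun h ↦ hq₂ (q.2.mem_of_pow_mem k h), hk⟩
    intro a b hab
    obtain ⟨a, rfl⟩ := (transfer (R ⧸ P) Mq J).surjective a
    obtain ⟨b, rfl⟩ := (transfer (R ⧸ P) Mq J).surjective b
    rw [transfer_natural, transfer_natural] at hab
    rw [h ((transfer (R ⧸ P) Mq (R ⧸ P)).injective hab)]
  refine Groth.Agent.Lib.LocalFlat.Criterion.flat_of_injective_of_flat_quotient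
    (Localization.AtPrime q.asIdeal) P ?_ hinj
  rw [IsLocalRing.jacobson_eq_maximalIdeal ⊥ bot_ne_top, Ideal.map_le_iff_le_comap]
  intro r hr
  rw [Ideal.mem_comap, IsScalarTower.algebraMap_apply R S (Localization.AtPrime q.asIdeal),
    IsLocalization.AtPrime.to_map_mem_maximal_iff (Localization.AtPrime q.asIdeal) q.asIdeal]
  exact hpq hr

end Groth.Agent.H19.FlatLocus
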